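import Mathlib.GroupTheory.CommutingProbability
import Mathlib.GroupTheory.GroupAction.CardCommute
import Mathlib.Algebra.BigOperators.Fin

/-!
# Bounds for the class numbers of all subgroups of a group
-/

set_option autoImplicit false
set_option linter.unusedSectionVars false

namespace Cfsg.Lib.Solv.ClassCount

open Subgroup

universe u v

/-- Every subgroup has at most `n` conjugacy classes. -/
def SubClassLE (A : Type u) [Group A] (n : ℕ) : Prop :=
  ∀ H : Subgroup A, Nat.card (ConjClasses H) ≤ n

variable {A : Type u} {B : Type v} [Group A] [Group B]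

/-- The commuting pairs, counted by centralisers. -/
theorem sum_centralizer [Fintype A] :
    ∑ x : A, Nat.card (centralizer ({x} : Set A)) = Nat.card (ConjClasses A) * Nat.card A := by
  classical
  rw [← card_comm_eq_card_conjClasses_mul_card, Nat.card_congr
    (Equiv.subtypeProdEquivSigmaSubtype fun a b : A => Commute a b), Nat.card_sigma]
  exact Finset.sum_congr rfl fun x _ => Nat.card_congr (Equiv.subtypeEquivRight fun y =>
    ⟨fun h => (mem_centralizer_singleton_iff.1 h).symm, fun h => mem_centralizer_singleton_iff.2 h.symm⟩)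

theorem card_classes_le_card [Finite A] : Nat.card (ConjClasses A) ≤ Nat.card A :=
  Nat.card_le_card_of_surjective ConjClasses.mk ConjClasses.mk_surjective

theorem card_classes_congr (e : A ≃* B) : Nat.card (ConjClasses A) = Nat.card (ConjClasses B) := by
  refine Nat.card_eq_of_bijective (ConjClasses.map e.toMonoidHom) ⟨?_, ?_⟩
  · intro a b hab
    obtain ⟨a, rfl⟩ := ConjClasses.exists_rep a
    obtain ⟨b, rfl⟩ := ConjClasses.exists_rep b
    have h : IsConj (e a) (e b) := ConjClasses.mk_eq_mk_iff_isConj.1 hab
    obtain ⟨c, hc⟩ := isConj_iff.1 h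
    refine ConjClasses.mk_eq_mk_iff_isConj.2 (isConj_iff.2 ⟨e.symm c, e.injective ?_⟩)
    rw [map_mul, map_mul, map_inv, MulEquiv.apply_symm_apply, hc]
  · exact ConjClasses.map_surjective e.surjective

/-- The class number of an extension. -/
theorem card_classes_le_mul [Finite A] (N : Subgroup A) [N.Normal] :
    Nat.card (ConjClasses A) ≤ Nat.card (ConjClasses N) * Nat.card (ConjClasses (A ⧸ N)) := by
  classical
  haveI := Fintype.ofFinite A
  set π := QuotientGroup.mk' N with hπ
  have hstep : ∀ x : A, Nat.card (centralizer ({x} : Set A)) ≤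
      Nat.card (centralizer ({π x} : Set (A ⧸ N))) *
        Nat.card {n : N // Commute (n : A) x} := fun x => by
    set C := centralizer ({x} : Set A) with hC
    set f := π.comp C.subtype with hf
    have h1 : Nat.card f.range * Nat.card f.ker = Nat.card C := by
      rw [← index_ker, index_mul_card]
    rw [← h1]
    refine Nat.mul_le_mul (Nat.card_le_card_of_injective
      (fun q : f.range => (⟨q, ?_⟩ : centralizer ({π x} : Set (A ⧸ N)))) fun q r h => Subtype.ext
        (congrArg (fun z : centralizer ({π x} : Set (A ⧸ N)) => (z : A ⧸ N)) h)) ?_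
    · obtain ⟨c, hc⟩ := q.2
      rw [← hc, mem_centralizer_singleton_iff, hf, MonoidHom.comp_apply, coe_subtype, ← map_mul, ← map_mul,
        mem_centralizer_singleton_iff.1 c.2]
    · refine Nat.card_le_card_of_injective (fun c : f.ker => (⟨⟨((c : C) : A), ?_⟩, ?_⟩ :
        {n : N // Commute (n : A) x})) fun c d h => Subtype.ext (Subtype.ext
          (congrArg (fun z : {n : N // Commute (n : A) x} => ((z : N) : A)) h))
      · exact (QuotientGroup.eq_one_iff _).1 c.2
      · exact mem_centralizer_singleton_iff.1 (c : C).2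
  have hinner : ∀ q : A ⧸ N, ∑ x ∈ Finset.univ.filter (fun x => π x = q),
      Nat.card {n : N // Commute (n : A) x} ≤ Nat.card (ConjClasses N) * Nat.card N := fun q => by
    rw [← sum_centralizer]
    simp only [Nat.card_eq_fintype_card, Fintype.card_subtype, Finset.card_filter]
    rw [Finset.sum_comm]
    refine Finset.sum_le_sum fun n _ => ?_
    rw [← Finset.card_filter, ← Finset.card_filter]
    rcases ((Finset.univ.filter fun x => π x = q).filter fun x => Commute (n : A) x).eq_empty_or_nonempty with
      h | ⟨x₀, hx₀⟩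
    · simp [h]
    simp only [Finset.mem_filter, Finset.mem_univ, true_and] at hx₀
    refine Finset.card_le_card_of_injOn (fun x => if h : x₀⁻¹ * x ∈ N then ⟨_, h⟩ else 1) ?_ ?_
    · intro x hx
      simp only [Finset.coe_filter, Finset.mem_univ, true_and, Set.mem_setOf_eq, Finset.mem_filter] at hx ⊢
      have hN : x₀⁻¹ * x ∈ N := QuotientGroup.eq.1 (hx₀.1.trans hx.1.symm)
      rw [dif_pos hN, mem_centralizer_singleton_iff]
      exact Subtype.ext ((hx₀.2.inv_right.mul_right hx.2).symm.eq)
    · intro x hx y hy hxy
      simp only [Finset.coe_filter, Finset.mem_univ, true_and, Set.mem_setOf_eq, Finset.mem_filter] at hx hy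
      simp only [dif_pos (QuotientGroup.eq.1 (hx₀.1.trans hx.1.symm) : x₀⁻¹ * x ∈ N),
        dif_pos (QuotientGroup.eq.1 (hx₀.1.trans hy.1.symm) : x₀⁻¹ * y ∈ N), Subtype.mk.injEq] at hxy
      exact mul_left_cancel hxy
  have hsum : Nat.card (ConjClasses A) * Nat.card A ≤
      Nat.card (ConjClasses N) * Nat.card N * (Nat.card (ConjClasses (A ⧸ N)) * Nat.card (A ⧸ N)) :=
    calc Nat.card (ConjClasses A) * Nat.card A = ∑ x : A, Nat.card (centralizer ({x} : Set A)) :=
          sum_centralizer.symm
      _ ≤ ∑ x : A, Nat.card (centralizer ({π x} : Set (A ⧸ N))) * Nat.card {n : N // Commute (n : A) x} :=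
          Finset.sum_le_sum fun x _ => hstep x
      _ = ∑ q : A ⧸ N, ∑ x ∈ Finset.univ.filter (fun x => π x = q),
            Nat.card (centralizer ({π x} : Set (A ⧸ N))) * Nat.card {n : N // Commute (n : A) x} :=
          (Finset.sum_fiberwise _ _ _).symm
      _ = ∑ q : A ⧸ N, Nat.card (centralizer ({q} : Set (A ⧸ N))) *
            ∑ x ∈ Finset.univ.filter (fun x => π x = q), Nat.card {n : N // Commute (n : A) x} :=
          Finset.sum_congr rfl fun q _ => by
            rw [Finset.mul_sum]
            exact Finset.sum_congr rfl fun x hx => by rw [(Finset.mem_filter.1 hx).2]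
      _ ≤ ∑ q : A ⧸ N, Nat.card (centralizer ({q} : Set (A ⧸ N))) *
            (Nat.card (ConjClasses N) * Nat.card N) :=
          Finset.sum_le_sum fun q _ => Nat.mul_le_mul le_rfl (hinner q)
      _ = _ := by rw [← Finset.sum_mul, sum_centralizer]; ring
  rw [Subgroup.card_eq_card_quotient_mul_card_subgroup N] at hsum
  refine Nat.le_of_mul_le_mul_right (c := Nat.card (A ⧸ N) * Nat.card N) ?_
    (Nat.mul_pos Nat.card_pos Nat.card_pos)
  calc _ ≤ _ := hsum
    _ = _ := by ring

/-- A bound for the class number from a bound on centralisers outside a small set. -/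
theorem card_classes_lt [Finite A] (S : Set A) (h1 : (1 : A) ∈ S) {m : ℕ}
    (hC : ∀ x ∉ S, Nat.card (centralizer ({x} : Set A)) ≤ m) :
    Nat.card (ConjClasses A) < Nat.card S + m ∨ m = 0 := by
  classical
  haveI := Fintype.ofFinite A
  rcases Nat.eq_zero_or_pos m with hm | hm
  · exact Or.inr hm
  refine Or.inl (Nat.lt_of_mul_lt_mul_right (a := Nat.card A) ?_)
  rw [← sum_centralizer, ← Finset.sum_filter_add_sum_filter_not Finset.univ (· ∈ S), add_mul]
  have hS : (Finset.univ.filter (· ∈ S)).card = Nat.card S := by
    rw [Nat.card_eq_fintype_card, ← Fintype.card_subtype]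
  refine add_lt_add_of_le_of_lt ((Finset.sum_le_card_nsmul _ _ _ fun x _ =>
    Nat.card_le_card_of_injective _ Subtype.val_injective).trans ?_) ?_
  · rw [smul_eq_mul, hS]
  · refine lt_of_le_of_lt (Finset.sum_le_card_nsmul _ _ m fun x hx => hC x (Finset.mem_filter.1 hx).2) ?_
    rw [smul_eq_mul, mul_comm]
    refine Nat.mul_lt_mul_of_pos_left ?_ hm
    rw [Nat.card_eq_fintype_card]
    exact Finset.card_lt_univ_of_notMem (x := 1) (by simp [h1])

namespace SubClassLE

theorem mono {n m : ℕ} (h : SubClassLE A n) (hnm : n ≤ m) : SubClassLE A m := fun H => (h H).trans hnm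

theorem of_card [Finite A] {n : ℕ} (h : Nat.card A ≤ n) : SubClassLE A n := fun H =>
  card_classes_le_card.trans ((Nat.card_le_card_of_injective _ Subtype.val_injective).trans h)

theorem of_injective (f : A →* B) (hf : Function.Injective f) {n : ℕ} (h : SubClassLE B n) :
    SubClassLE A n := fun H => by
  rw [card_classes_congr (equivMapOfInjective H f hf)]
  exact h _

theorem of_surjective [Finite A] (f : A →* B) (hf : Function.Surjective f) {n : ℕ} (h : SubClassLE A n) :
    SubClassLE B n := fun H =>
  (Nat.card_le_card_of_surjective _ (ConjClasses.map_surjective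
    (f := f.subgroupComap H) fun y => by
      obtain ⟨a, ha⟩ := hf y
      exact ⟨⟨a, mem_comap.2 (ha.symm ▸ y.2)⟩, Subtype.ext ha⟩)).trans (h (H.comap f))

theorem of_hom [Finite A] (f : A →* B) {m n : ℕ} (hker : SubClassLE f.ker m) (hrange : SubClassLE f.range n) :
    SubClassLE A (m * n) := fun H => by
  set g := f.comp H.subtype with hg
  refine (card_classes_le_mul g.ker).trans (Nat.mul_le_mul ?_ ?_)
  · let i : g.ker →* f.ker :=
      { toFun := fun x => ⟨((x : H) : A), x.2⟩
        map_one' := rfl
        map_mul' := fun _ _ => rfl }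
    rw [card_classes_congr (Subgroup.topEquiv (G := g.ker)).symm]
    exact SubClassLE.of_injective i (fun x y h => Subtype.ext (Subtype.ext
      (congrArg (fun z : f.ker => (z : A)) h))) hker ⊤
  · rw [card_classes_congr (QuotientGroup.quotientKerEquivRange g)]
    rw [card_classes_congr (Subgroup.topEquiv (G := g.range)).symm]
    have hle : g.range ≤ f.range := by rintro _ ⟨x, rfl⟩; exact ⟨_, rfl⟩
    exact SubClassLE.of_injective (inclusion hle) (inclusion_injective hle) hrange ⊤

theorem prod [Finite A] [Finite B] {m n : ℕ} (hA : SubClassLE A m) (hB : SubClassLE B n) :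
    SubClassLE (A × B) (m * n) := by
  have h := SubClassLE.of_hom (MonoidHom.snd A B) (m := m) (n := n)
    (SubClassLE.of_injective ((MonoidHom.fst A B).comp (MonoidHom.ker _).subtype)
      (fun x y h => Subtype.ext (Prod.ext h (x.2.trans y.2.symm))) hA)
    (SubClassLE.of_injective (MonoidHom.range _).subtype Subtype.val_injective hB)
  exact h

theorem pi : ∀ {k : ℕ} (P : Fin k → Type u) [∀ i, Group (P i)] [∀ i, Finite (P i)] (n : Fin k → ℕ),
    (∀ i, SubClassLE (P i) (n i)) → SubClassLE (∀ i, P i) (∏ i, n i)
  | 0, P, _, _, n, _ => SubClassLE.of_card (by rw [Nat.card_pi]; simp)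
  | k + 1, P, _, _, n, h => by
    rw [Fin.prod_univ_succ]
    let f : (∀ i, P i) →* P 0 × ∀ i : Fin k, P i.succ :=
      { toFun := fun x => (x 0, fun i => x i.succ)
        map_one' := rfl
        map_mul' := fun _ _ => rfl }
    refine SubClassLE.of_injective f (fun x y hxy => funext fun i => ?_)
      (SubClassLE.prod (h 0) (SubClassLE.pi (fun i => P i.succ) (fun i => n i.succ) fun i => h _))
    cases i using Fin.cases with
    | zero => exact congrArg Prod.fst hxy
    | succ j => exact congrFun (congrArg Prod.snd hxy) j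

end SubClassLE

/-- Subgroups of a product. -/
theorem subClassLE_of_pi {ι : Type} [Fintype ι] (P : ι → Type u) [∀ i, Group (P i)] [∀ i, Finite (P i)]
    [Finite A] (f : A →* ∀ i, P i) (hf : Function.Injective f) (n : ι → ℕ)
    (h : ∀ i, SubClassLE (P i) (n i)) : SubClassLE A (∏ i, n i) := by
  set e := (Fintype.equivFin ι).symm with he
  rw [← Equiv.prod_comp e n]
  let g : (∀ i, P i) →* ∀ j, P (e j) :=
    { toFun := fun x j => x (e j)
      map_one' := rfl
      map_mul' := fun _ _ => rfl }
  refine SubClassLE.of_injective (g.comp f) ?_ (SubClassLE.pi _ _ fun j => h (e j))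
  intro x y hxy
  refine hf (funext fun i => ?_)
  obtain ⟨j, rfl⟩ := e.surjective i
  exact congrFun hxy j

end Cfsg.Lib.Solv.ClassCount
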