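import Mathlib.Data.Nat.Factorial.Basic
import Mathlib.Data.Nat.Prime.Basic
import Mathlib.Data.Nat.Log
import Mathlib.Algebra.Order.Ring.Nat
import Mathlib.Tactic.IntervalCases
import Mathlib.Tactic.NormNum.Prime
import Mathlib.Tactic.Linarith
import Mathlib.Tactic.Ring

/-!
# The bound for solvable permutation groups: arithmetic
-/

set_option autoImplicit false

namespace Cfsg.Lib.Solv.ClassCount

/-- The bound for the class numbers of the solvable permutation groups of a given degree. -/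
def pb (n : ℕ) : ℕ :=
  if n ≤ 6 then [1, 1, 2, 3, 12, 20, 24].getD n 0 else 3 ^ (n - 1)

theorem pb_of_le {n : ℕ} (h : n ≤ 6) : pb n = [1, 1, 2, 3, 12, 20, 24].getD n 0 := if_pos h

theorem pb_of_gt {n : ℕ} (h : 6 < n) : pb n = 3 ^ (n - 1) := if_neg (by omega)

theorem pb_le (n : ℕ) : pb n ≤ 3 ^ (n - 1) := by
  rcases le_or_gt n 6 with h | h
  · interval_cases n <;> decide
  · rw [pb_of_gt h]

theorem pb_mul_le {a b : ℕ} (ha : 0 < a) (hb : 0 < b) : pb a * pb b ≤ pb (a + b) := by
  rcases le_or_gt (a + b) 6 with h | h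
  · have : a ≤ 5 := by omega
    have : b ≤ 5 := by omega
    interval_cases a <;> interval_cases b <;> first | omega | decide
  · refine (Nat.mul_le_mul (pb_le a) (pb_le b)).trans ?_
    rw [← pow_add, pb_of_gt h]
    exact Nat.pow_le_pow_right (by norm_num) (by omega)

theorem pb_pow_mul_le {a m : ℕ} (ha : 2 ≤ a) (hm : 2 ≤ m) : pb a ^ m * pb m ≤ pb (a * m) := by
  rcases le_or_gt (a * m) 6 with h | h
  · have : a ≤ 3 := by nlinarith
    have : m ≤ 3 := by nlinarith
    interval_cases a <;> interval_cases m <;> first | omega | decide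
  · refine (Nat.mul_le_mul (Nat.pow_le_pow_left (pb_le a) m) (pb_le m)).trans ?_
    rw [← pow_mul, ← pow_add, pb_of_gt h]
    refine Nat.pow_le_pow_right (by norm_num) ?_
    obtain ⟨a, rfl⟩ : ∃ c, a = c + 1 := ⟨a - 1, by omega⟩
    rw [Nat.add_sub_cancel, add_mul, one_mul]
    omega

theorem sq_succ_lt_two_pow : ∀ D : ℕ, 6 ≤ D → (D + 1) * (D + 1) + 1 ≤ 2 ^ D := by
  intro D hD
  induction D, hD using Nat.le_induction with
  | base => norm_num
  | succ D hD ih => rw [pow_succ]; nlinarith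

theorem small_cases : ∀ n < 64, 4 < n → ∀ s < 7,
    (∃ p < 64, p.Prime ∧ ∃ d < 7, p ^ d = n ∧ p ^ s ≤ n) → n * (n - 1).descFactorial s ≤ pb n := by
  decide +kernel

/-- The bound for a primitive group of prime power degree. -/
theorem primitive_arith {n p d s : ℕ} (hp : p.Prime) (hn : p ^ d = n) (hs : p ^ s ≤ n) (h4 : 4 < n) :
    n * (n - 1).descFactorial s ≤ pb n := by
  have hd : 0 < d := Nat.pos_of_ne_zero fun h => by rw [h, pow_zero] at hn; omega
  have hpn : p ≤ n := hn ▸ Nat.le_self_pow hd.ne' p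
  rcases lt_or_ge n 64 with h | h
  · have hlt : ∀ e : ℕ, p ^ e ≤ n → e < 7 := fun e he => by
      have h2 : 2 ^ e ≤ p ^ e := Nat.pow_le_pow_left hp.two_le e
      by_contra hge
      have : 2 ^ 7 ≤ 2 ^ e := Nat.pow_le_pow_right (by norm_num) (by omega)
      omega
    exact small_cases n h h4 s (hlt s hs) ⟨p, by omega, hp, d, hlt d hn.le, hn, hs⟩
  · have hD : 6 ≤ Nat.log 2 n := Nat.le_log_of_pow_le (by norm_num) (by omega)
    have h1 := Nat.pow_log_le_self 2 (show n ≠ 0 by omega)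
    have h2 := Nat.lt_pow_succ_log_self (b := 2) (by norm_num) n
    have hsD : s ≤ Nat.log 2 n := Nat.le_log_of_pow_le (by norm_num)
      ((Nat.pow_le_pow_left hp.two_le s).trans hs)
    rw [pb_of_gt (by omega)]
    set D := Nat.log 2 n
    calc n * (n - 1).descFactorial s ≤ n * n ^ s :=
          Nat.mul_le_mul le_rfl ((Nat.descFactorial_le_pow _ _).trans (Nat.pow_le_pow_left (by omega) _))
      _ = n ^ (s + 1) := by rw [pow_succ']
      _ ≤ (2 ^ (D + 1)) ^ (s + 1) := Nat.pow_le_pow_left h2.le _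
      _ ≤ (2 ^ (D + 1)) ^ (D + 1) := Nat.pow_le_pow_right (pow_pos two_pos _) (by omega)
      _ = 2 ^ ((D + 1) * (D + 1)) := by rw [← pow_mul]
      _ ≤ 2 ^ (n - 1) := Nat.pow_le_pow_right two_pos (by have := sq_succ_lt_two_pow D hD; omega)
      _ ≤ 3 ^ (n - 1) := Nat.pow_le_pow_left (by norm_num) _

end Cfsg.Lib.Solv.ClassCount
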