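import Mathlib
import Cfsg.Agent.Lib.Solv.ClassCount.Basic
import Cfsg.Agent.Lib.Solv.ClassCount.PermArith
import Cfsg.Agent.Lib.Solv.Primitive

/-!
# Class numbers of solvable permutation groups

Every subgroup of a solvable permutation group of degree `n` has at most `pb n ≤ 3 ^ (n - 1)` classes.
-/

set_option autoImplicit false
set_option linter.style.haveILetI false
set_option linter.unusedSectionVars false

namespace Cfsg.Lib.Solv.ClassCount

open MulAction Cfsg.Lib.Core
open scoped Pointwise

/-- The restriction of an action to an invariant subset. -/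
def restrictHom {A Ω : Type*} [Group A] (g : A →* Equiv.Perm Ω) (P : Ω → Prop)
    (h : ∀ (a : A) x, P (g a x) ↔ P x) : A →* Equiv.Perm {x // P x} where
  toFun a := (g a).subtypePerm (h a)
  map_one' := Equiv.ext fun x => Subtype.ext (by simp)
  map_mul' a b := Equiv.ext fun x => Subtype.ext (by simp only [map_mul]; rfl)

/-- The statement in degree `n`. -/
def PB (n : ℕ) : Prop :=
  ∀ (A : Subgroup (Equiv.Perm (Fin n))), Group.IsSolvable A → SubClassLE A (pb n)

theorem PB.transfer {A Ω : Type*} [Group A] [Finite A] [Finite Ω] (f : A →* Equiv.Perm Ω)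
    (h : PB (Nat.card Ω)) [Group.IsSolvable A] : SubClassLE f.range (pb (Nat.card Ω)) := by
  let e : Equiv.Perm Ω ≃* Equiv.Perm (Fin (Nat.card Ω)) := (Finite.equivFin Ω).permCongrHom
  set g := e.toMonoidHom.comp f.range.subtype
  haveI : Group.IsSolvable f.range := Group.isSolvable_of_surjective f.rangeRestrict_surjective
  haveI : Group.IsSolvable g.range := Group.isSolvable_of_surjective g.rangeRestrict_surjective
  exact SubClassLE.of_injective g.rangeRestrict
    (fun x y hxy => Subtype.ext (e.injective (congrArg Subtype.val hxy))) (h g.range ‹_›)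

/-- An action with an equivariant map. -/
theorem PB.fibred {A Ω J : Type*} [Group A] [Finite A] [Group.IsSolvable A] [MulAction A Ω] [FaithfulSMul A Ω]
    [Finite Ω] [Fintype J] (π : Ω → J) (σ : A →* Equiv.Perm J) (hπ : ∀ (a : A) x, π (a • x) = σ a (π x))
    (hfib : ∀ j, PB (Nat.card {x // π x = j})) {m : ℕ} (hσ : SubClassLE σ.range m) :
    SubClassLE A ((∏ j, pb (Nat.card {x // π x = j})) * m) := by
  refine SubClassLE.of_hom σ ?_ hσ
  have hinv : ∀ (j : J) (a : σ.ker) (x : Ω),
      π ((MulAction.toPermHom A Ω).comp σ.ker.subtype a x) = j ↔ π x = j := fun j a x => by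
    show π ((a : A) • x) = j ↔ _
    rw [hπ, MonoidHom.mem_ker.1 a.2, Equiv.Perm.one_apply]
  let f : ∀ j, σ.ker →* Equiv.Perm {x // π x = j} := fun j =>
    restrictHom ((MulAction.toPermHom A Ω).comp σ.ker.subtype) (fun x => π x = j) (hinv j)
  set e : Fin (Fintype.card J) ≃ J := (Fintype.equivFin J).symm
  rw [← Equiv.prod_comp e fun j => pb (Nat.card {x // π x = j})]
  let g : σ.ker →* ∀ i, (f (e i)).range := Pi.monoidHom fun i => (f (e i)).rangeRestrict
  refine SubClassLE.of_injective g (fun a b hab => Subtype.ext (eq_of_smul_eq_smul fun x : Ω => ?_))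
    (SubClassLE.pi _ _ fun i => PB.transfer _ (hfib _))
  obtain ⟨i, hi⟩ := e.surjective (π x)
  exact congrArg Subtype.val (Equiv.congr_fun
    (congrArg Subtype.val (congrFun hab i) : f (e i) a = f (e i) b) ⟨x, hi.symm⟩)

/-- A generating set of logarithmic size of a group of prime power order. -/
theorem exists_small_generators (M : Type*) [Group M] [Finite M] {p d : ℕ} (hp : p.Prime)
    (hM : Nat.card M = p ^ d) :
    ∃ S : Finset M, (1 : M) ∉ S ∧ Subgroup.closure (S : Set M) = ⊤ ∧ p ^ S.card ≤ Nat.card M := by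
  classical
  have key : ∀ k ≤ d + 1, ∃ S : Finset M, (1 : M) ∉ S ∧ p ^ S.card ≤ Nat.card (Subgroup.closure (S : Set M)) ∧
      (Subgroup.closure (S : Set M) = ⊤ ∨ k ≤ S.card) := by
    intro k hk
    induction k with
    | zero => exact ⟨∅, by simp, by simp, Or.inr le_rfl⟩
    | succ k ih =>
      obtain ⟨S, h1, h2, h3 | h3⟩ := ih (by omega)
      · exact ⟨S, h1, h2, Or.inl h3⟩
      by_cases htop : Subgroup.closure (S : Set M) = ⊤
      · exact ⟨S, h1, h2, Or.inl htop⟩
      obtain ⟨x, -, hx⟩ := SetLike.exists_of_lt (Ne.lt_top htop)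
      refine ⟨insert x S, ?_, ?_, Or.inr ?_⟩
      · simp only [Finset.mem_insert, not_or]
        exact ⟨fun h => hx (h ▸ one_mem _), h1⟩
      · have hxS : x ∉ S := fun h => hx (Subgroup.subset_closure h)
        rw [Finset.card_insert_of_notMem hxS, pow_succ]
        set C := Subgroup.closure (S : Set M)
        set D := Subgroup.closure ((insert x S : Finset M) : Set M)
        have hle : C ≤ D := Subgroup.closure_mono (by simp)
        obtain ⟨t, ht⟩ := Subgroup.card_dvd_of_le hle
        have hD : t ∣ p ^ d := hM ▸ (Dvd.intro_left _ ht.symm).trans (Subgroup.card_subgroup_dvd_card D)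
        obtain ⟨i, -, rfl⟩ := (Nat.dvd_prime_pow hp).1 hD
        have hi : i ≠ 0 := fun h0 => by
          rw [h0, pow_zero, mul_one] at ht
          exact hx (Subgroup.eq_of_le_of_card_ge hle ht.le ▸ Subgroup.subset_closure (by simp))
        rw [ht]
        exact Nat.mul_le_mul h2 (Nat.le_self_pow hi p)
      · rw [Finset.card_insert_of_notMem fun h => hx (Subgroup.subset_closure h)]
        omega
  obtain ⟨S, h1, h2, h3 | h3⟩ := key (d + 1) le_rfl
  · exact ⟨S, h1, h3, h2.trans (Subgroup.card_le_card_group _)⟩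
  · exact absurd (h2.trans (Subgroup.card_le_card_group _)) (by
      rw [hM, not_le]; exact Nat.pow_lt_pow_right hp.one_lt (by omega))

theorem perm_three_centralizer : ∀ x : Equiv.Perm (Fin 3), x ≠ 1 →
    (Finset.univ.filter fun y : Equiv.Perm (Fin 3) => y * x = x * y).card ≤ 3 := by decide +kernel

theorem pb_three : PB 3 := fun A _ H => by
  have h : ∀ x : H, x ∉ ({1} : Set H) → Nat.card (Subgroup.centralizer ({x} : Set H)) ≤ 3 := fun x hx => by
    refine le_trans ?_ (perm_three_centralizer ((x : A) : Equiv.Perm (Fin 3)) fun e =>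
      hx (Subtype.ext (Subtype.ext e)))
    rw [← Fintype.card_subtype, ← Nat.card_eq_fintype_card]
    exact Nat.card_le_card_of_injective
      (fun y => ⟨(((y : H) : A) : Equiv.Perm (Fin 3)),
        congrArg (fun z : H => ((z : A) : Equiv.Perm (Fin 3))) (Subgroup.mem_centralizer_singleton_iff.1 y.2)⟩)
      fun a b e => Subtype.ext (Subtype.ext (Subtype.ext (congrArg
        (fun z : {y : Equiv.Perm (Fin 3) // y * (x : A) = (x : A) * y} => (z : Equiv.Perm (Fin 3))) e)))
  rcases card_classes_lt ({1} : Set H) rfl h with h' | h'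
  · rw [show Nat.card ({1} : Set H) = 1 by simp] at h'
    rw [pb_of_le (by norm_num)]
    simp only [List.getD_cons_succ, List.getD_cons_zero]
    omega
  · omega

theorem pb_small {n : ℕ} (hn : n ≤ 2) : PB n := fun A _ =>
  SubClassLE.of_card ((Subgroup.card_le_card_group A).trans (by
    rw [Nat.card_perm, Nat.card_fin]
    interval_cases n <;> decide))

section Step

variable {n : ℕ} (ih : ∀ k < n, PB k) {A : Type} [Group A] [Finite A] [Group.IsSolvable A]
  [MulAction A (Fin n)] [FaithfulSMul A (Fin n)]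

include ih

theorem intransitive (h : ¬ IsPretransitive A (Fin n)) : SubClassLE A (pb n) := by
  classical
  obtain ⟨a, b, hab⟩ : ∃ a b : Fin n, b ∉ orbit A a := by
    by_contra hc
    push Not at hc
    exact h ⟨hc⟩
  have hinv : ∀ (g : A) x, g • x ∈ orbit A a ↔ x ∈ orbit A a := fun g x =>
    ⟨fun hx => by have := mem_orbit_of_mem_orbit g⁻¹ hx; rwa [inv_smul_smul] at this,
      mem_orbit_of_mem_orbit g⟩
  set π : Fin n → Bool := fun x => decide (x ∈ orbit A a) with hπ
  have hsum : Nat.card {x // π x = true} + Nat.card {x // π x = false} = n := by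
    conv_rhs => rw [← Nat.card_fin n, Nat.card_congr (Equiv.sigmaFiberEquiv π).symm, Nat.card_sigma,
      Fintype.sum_bool]
  have hpos : 0 < Nat.card {x // π x = true} ∧ 0 < Nat.card {x // π x = false} :=
    ⟨Nat.card_pos_iff.2 ⟨⟨a, by simp [hπ]⟩, inferInstance⟩,
      Nat.card_pos_iff.2 ⟨⟨b, by simp [hπ, hab]⟩, inferInstance⟩⟩
  refine (PB.fibred π (1 : A →* Equiv.Perm Bool) (fun g x => ?_) (fun j => ih _ ?_) (m := 1) ?_).mono ?_
  · rw [MonoidHom.one_apply, Equiv.Perm.one_apply]
    simp only [hπ, hinv]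
  · cases j <;> omega
  · exact SubClassLE.of_card (by rw [MonoidHom.range_one, Subgroup.card_bot])
  · rw [mul_one, Fintype.prod_bool]
    exact (pb_mul_le hpos.1 hpos.2).trans (le_of_eq (by rw [hsum]))

theorem imprimitive [IsPretransitive A (Fin n)] {X : Set (Fin n)} (hX : IsBlock A X)
    (hX1 : ¬ X.Subsingleton) (hX2 : X ≠ Set.univ) : SubClassLE A (pb n) := by
  classical
  obtain ⟨x₀, hx₀, x₁, hx₁, hne⟩ := Set.not_subsingleton_iff.1 hX1
  have heq : ∀ g g' : A, ∀ x, x ∈ g • X → x ∈ g' • X → g • X = g' • X := fun g g' x h h' => by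
    by_contra hc
    exact Set.disjoint_left.1 (hX hc) h h'
  have ht : ∀ x : Fin n, ∃ t : A, x ∈ t • X := fun x => by
    obtain ⟨g, rfl⟩ := exists_smul_eq A x₀ x
    exact ⟨g, Set.smul_mem_smul_set hx₀⟩
  choose t ht using ht
  let π : Fin n → orbit A X := fun x => ⟨t x • X, t x, rfl⟩
  haveI : Fintype (orbit A X) := Fintype.ofFinite _
  have hπ : ∀ (g : A) x, π (g • x) = MulAction.toPermHom A (orbit A X) g (π x) := fun g x => by
    refine Subtype.ext ?_
    show t (g • x) • X = g • (t x • X)
    rw [smul_smul]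
    refine heq _ _ (g • x) (ht _) ?_
    rw [mul_smul]
    exact Set.smul_mem_smul_set (ht x)
  have hmem : ∀ (Y : orbit A X) x, π x = Y ↔ x ∈ (Y : Set (Fin n)) := fun Y x => by
    obtain ⟨g, hg⟩ := Y.2
    refine ⟨fun h => h ▸ ht x, fun h => Subtype.ext ?_⟩
    show t x • X = _
    have hg' : g • X = (Y : Set (Fin n)) := hg
    rw [← hg']
    exact heq _ _ x (ht x) (by rw [hg']; exact h)
  have hfib : ∀ Y : orbit A X, Nat.card {x // π x = Y} = Nat.card X := fun Y => by
    obtain ⟨g, hg⟩ := Y.2
    rw [Nat.card_congr (Equiv.subtypeEquivRight (hmem Y)), ← hg]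
    exact (Nat.card_congr ((MulAction.toPerm g).image X)).symm
  have hcard : Nat.card X * Nat.card (orbit A X) = n := by
    conv_rhs => rw [← Nat.card_fin n, Nat.card_congr (Equiv.sigmaFiberEquiv π).symm, Nat.card_sigma,
      Finset.sum_congr rfl fun Y _ => hfib Y, Finset.sum_const, Finset.card_univ, smul_eq_mul,
      ← Nat.card_eq_fintype_card, mul_comm]
  have hX2' : 2 ≤ Nat.card X := by
    have hX' : ({x₀, x₁} : Finset (Fin n)) ⊆ X.toFinset := by
      intro x hx
      simp only [Finset.mem_insert, Finset.mem_singleton] at hx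
      rcases hx with rfl | rfl <;> simpa
    have h := Finset.card_le_card hX'
    rw [Finset.card_pair hne, Set.toFinset_card, ← Nat.card_eq_fintype_card] at h
    exact h
  have hm : 2 ≤ Nat.card (orbit A X) := by
    rcases Nat.lt_or_ge 1 (Nat.card (orbit A X)) with h | h
    · exact h
    refine absurd (Set.eq_univ_of_forall fun x => ?_) hX2
    haveI : Subsingleton (orbit A X) := Finite.card_le_one_iff_subsingleton.1 h
    have h1 := (hmem ⟨X, mem_orbit_self X⟩ x).1 (Subsingleton.elim _ _)
    exact h1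
  have hlt : Nat.card X < n ∧ Nat.card (orbit A X) < n := by
    constructor <;> nlinarith
  refine (PB.fibred π _ hπ (fun Y => ih _ (by rw [hfib]; exact hlt.1)) (PB.transfer _ (ih _ hlt.2))).mono ?_
  rw [Finset.prod_congr rfl fun Y _ => by rw [hfib Y], Finset.prod_const, Finset.card_univ,
    ← Nat.card_eq_fintype_card]
  exact (pb_pow_mul_le hX2' hm).trans (le_of_eq (by rw [hcard]))

theorem primitive [IsPreprimitive A (Fin n)] (h3 : 3 < n) : SubClassLE A (pb n) := by
  classical
  haveI : Nonempty (Fin n) := ⟨⟨0, by omega⟩⟩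
  haveI : Nontrivial A := by
    by_contra h
    rw [not_nontrivial_iff_subsingleton] at h
    obtain ⟨g, hg⟩ := exists_smul_eq A (⟨0, by omega⟩ : Fin n) ⟨1, by omega⟩
    rw [Subsingleton.elim g 1, one_smul] at hg
    simp at hg
  obtain ⟨M, hMn, hM, hmin⟩ : ∃ M : Subgroup A, M.Normal ∧ M ≠ ⊥ ∧
      ∀ K : Subgroup A, K.Normal → K ≤ M → K = ⊥ ∨ K = M := by
    obtain ⟨M, hM⟩ := (Set.toFinite {M : Subgroup A | M.Normal ∧ M ≠ ⊥}).exists_minimal
      ⟨⊤, inferInstance, top_ne_bot⟩
    refine ⟨M, hM.prop.1, hM.prop.2, fun K hK hle => ?_⟩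
    rcases eq_or_ne K ⊥ with h | h
    · exact Or.inl h
    · exact Or.inr (le_antisymm hle (hM.le_of_le ⟨hK, h⟩ hle))
  haveI := hMn
  obtain ⟨hab, htr, hreg, -⟩ := Cfsg.Lib.Solv.primitive_regular (Ω := Fin n) ‹_› hM hmin
  have hMin : IsMinNormal M := ⟨hMn, hM, hmin⟩
  obtain ⟨-, p, hp, -, hpg⟩ := minimal_solvable_elementary hMin inferInstance
  haveI := Fact.mk hp
  obtain ⟨d, hd⟩ := IsPGroup.iff_card.1 hpg
  let ω : Fin n := ⟨0, by omega⟩
  have hbij : Function.Bijective (fun m : M => m • ω) := by
    refine ⟨fun a b hab' => ?_, fun x => exists_smul_eq M ω x⟩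
    have h : b⁻¹ * a ∈ stabilizer M ω := by
      rw [mem_stabilizer_iff, mul_smul]
      exact (congrArg (b⁻¹ • ·) hab').trans (inv_smul_smul b ω)
    rw [hreg ω, Subgroup.mem_bot, inv_mul_eq_one] at h
    exact h.symm
  have hcard : Nat.card M = n := (Nat.card_eq_of_bijective _ hbij).trans (Nat.card_fin n)
  -- the action on the nonidentity elements
  have hP : ∀ (a : A) (m : M), (MulAut.conjNormal a : M ≃* M) m ≠ 1 ↔ m ≠ 1 := fun a m =>
    not_congr (MulEquiv.map_eq_one_iff _)
  let τ : A →* Equiv.Perm M :=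
    { toFun := fun a => (MulAut.conjNormal a : M ≃* M).toEquiv
      map_one' := by ext m; simp
      map_mul' := fun a b => by ext m; simp }
  let σ : A →* Equiv.Perm {m : M // m ≠ 1} := restrictHom τ (fun m => m ≠ 1) hP
  have hker : Nat.card σ.ker ≤ n := by
    rw [← Nat.card_fin n]
    refine Nat.card_le_card_of_injective (fun c : σ.ker => (c : A) • ω) fun c c' hcc => ?_
    have hcomm : ∀ (k : σ.ker) (m : M), (k : A) * m * (k : A)⁻¹ = m := fun k m => by
      rcases eq_or_ne m 1 with rfl | hm
      · simp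
      · exact congrArg (fun z : {m : M // m ≠ 1} => ((z : M) : A))
          (Equiv.congr_fun (MonoidHom.mem_ker.1 k.2) ⟨m, hm⟩)
    have hfix : ((c'⁻¹ * c : σ.ker) : A) • ω = ω := by
      rw [Subgroup.coe_mul, Subgroup.coe_inv, mul_smul]
      exact (congrArg ((c' : A)⁻¹ • ·) hcc).trans (inv_smul_smul _ ω)
    have hone : (c'⁻¹ * c : σ.ker) = 1 := Subtype.ext (eq_of_smul_eq_smul fun x : Fin n => by
      obtain ⟨m, rfl⟩ := exists_smul_eq M ω x
      have hk := hcomm (c'⁻¹ * c) m
      rw [mul_inv_eq_iff_eq_mul] at hk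
      show _ • ((m : A) • ω) = (1 : A) • ((m : A) • ω)
      rw [one_smul, smul_smul, hk, mul_smul, hfix])
    exact (inv_mul_eq_one.1 hone).symm
  have hσcard : Nat.card {m : M // m ≠ 1} = n - 1 := by
    haveI := Fintype.ofFinite M
    rw [Nat.card_eq_fintype_card, Fintype.card_subtype_compl, Fintype.card_subtype_eq,
      ← Nat.card_eq_fintype_card, hcard]
  rcases eq_or_ne n 4 with h4 | h4
  · have h := SubClassLE.of_hom σ (SubClassLE.of_card hker) (PB.transfer σ (ih _ (by omega)))
    rw [hσcard] at h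
    subst h4
    exact h.mono (by decide)
  obtain ⟨S, hS1, hS, hSle⟩ := exists_small_generators M hp hd
  have hrange : Nat.card σ.range ≤ (n - 1).descFactorial S.card := by
    haveI := Fintype.ofFinite {m : M // m ≠ 1}
    rw [← hσcard, Nat.card_eq_fintype_card (α := {m : M // m ≠ 1}), ← Fintype.card_coe S,
      ← Fintype.card_embedding_eq, ← Nat.card_eq_fintype_card]
    refine Nat.card_le_card_of_injective
      (fun q : σ.range => (⟨fun s => (q : Equiv.Perm _) ⟨(s : M), fun e => hS1 (e ▸ s.2)⟩,
        fun s s' e => by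
          have e' := (q : Equiv.Perm {m : M // m ≠ 1}).injective e
          have e'' := congrArg (fun z : {m : M // m ≠ 1} => (z : M)) e'
          exact Subtype.ext e''⟩ :
        S ↪ {m : M // m ≠ 1})) ?_
    rintro ⟨q, a, rfl⟩ ⟨q', a', rfl⟩ e
    refine Subtype.ext (Equiv.ext fun m => Subtype.ext ?_)
    have hh : (MulAut.conjNormal a : M ≃* M).toMonoidHom = (MulAut.conjNormal a' : M ≃* M).toMonoidHom :=
      MonoidHom.eq_of_eqOn_dense hS fun s hs =>
        congrArg (fun z : {m : M // m ≠ 1} => (z : M)) (DFunLike.congr_fun e (⟨s, hs⟩ : S))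
    exact DFunLike.congr_fun hh (m : M)
  refine (SubClassLE.of_hom σ (SubClassLE.of_card hker) (SubClassLE.of_card hrange)).mono ?_
  exact primitive_arith hp (hd.symm.trans hcard) (hSle.trans_eq hcard) (by omega)

end Step

/-- The class numbers of the subgroups of solvable permutation groups. -/
theorem pb_all : ∀ n, PB n := by
  intro n
  induction n using Nat.strong_induction_on with
  | _ n ih =>
    rcases le_or_gt n 2 with h2 | h2
    · exact pb_small h2
    rcases eq_or_lt_of_le (Nat.succ_le_of_lt h2) with h3 | h3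
    · exact h3 ▸ pb_three
    intro A hA
    haveI := hA
    by_cases htr : IsPretransitive A (Fin n)
    · by_cases hprim : ∀ X : Set (Fin n), IsBlock A X → IsTrivialBlock X
      · haveI : IsPreprimitive A (Fin n) :=
          { toIsPretransitive := htr, isTrivialBlock_of_isBlock := fun h => hprim _ h }
        exact primitive ih h3
      · push Not at hprim
        obtain ⟨X, hX, hX'⟩ := hprim
        exact imprimitive ih hX (fun h => hX' (Or.inl h)) (fun h => hX' (Or.inr h))
    · exact intransitive ih htr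

/-- The bound for a faithful action. -/
theorem subClassLE_of_perm {A Ω : Type*} [Group A] [Finite A] [Group.IsSolvable A] [Finite Ω]
    (f : A →* Equiv.Perm Ω) (hf : Function.Injective f) : SubClassLE A (pb (Nat.card Ω)) :=
  SubClassLE.of_injective f.rangeRestrict (MonoidHom.rangeRestrict_injective_iff.2 hf)
    (PB.transfer f (pb_all _))

end Cfsg.Lib.Solv.ClassCount
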