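import Cfsg.Agent.Lib.Solv.ClassCount.Form
import Cfsg.Agent.Lib.Solv.ClassCount.Perm

/-!
# Solvable isometry groups of four-dimensional spaces over the field with two elements

They act faithfully on the six quadratic forms of minus type with the given polar form.
-/

set_option autoImplicit false
set_option linter.style.haveILetI false
set_option linter.unusedSectionVars false

namespace Cfsg.Lib.Solv.ClassCount

/-- The standard space. -/
abbrev V4 := Fin 4 → ZMod 2

/-- The standard form. -/
def stdB (u v : V4) : ZMod 2 := u 0 * v 1 + u 1 * v 0 + u 2 * v 3 + u 3 * v 2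

/-- The quadratic forms polarising to the standard form. -/
def qv (a u : V4) : ZMod 2 := u 0 * u 1 + u 2 * u 3 + (a 0 * u 0 + a 1 * u 1 + a 2 * u 2 + a 3 * u 3)

/-- The vectors of the standard basis, or zero. -/
def em (i : Fin 4) (c : ZMod 2) : V4 := Pi.single i c

theorem qv_polar : ∀ a u v : V4, qv a (u + v) = qv a u + qv a v + stdB u v := by decide +kernel

theorem stdB_nondeg : ∀ u : V4, (∀ v, stdB u v = 0) → u = 0 := by decide +kernel

theorem eq_sum_em : ∀ u : V4, u = em 0 (u 0) + em 1 (u 1) + em 2 (u 2) + em 3 (u 3) := by decide +kernel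

/-- The parameters of minus type. -/
def minusType : Finset V4 :=
  Finset.univ.filter fun a => (Finset.univ.filter fun u => qv a u = 0).card = 6

theorem card_minusType : minusType.card = 6 := by decide +kernel

theorem minusType_separates : ∀ u v : V4, (∀ a ∈ minusType, qv a u = qv a v) → u = v := by decide +kernel

theorem sub_eq_add4 : ∀ a b : V4, a - b = a + b := by decide +kernel

theorem qv_em : ∀ (a : V4) (i : Fin 4), qv a (em i 1) = a i := by decide +kernel

theorem two_cases : ∀ c : ZMod 2, c = 0 ∨ c = 1 := by decide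

theorem five_terms : ∀ c1 c2 c3 c4 c5 : ZMod 2, c1 + c2 + c5 + (c3 + c4 + c5) = c1 + c3 + (c2 + c4) := by decide

theorem add_self2 : ∀ c : ZMod 2, c + c = 0 := by decide

theorem eq_of_add2 : ∀ c1 c2 : ZMod 2, c1 + c2 = 0 → c1 = c2 := by decide

/-- Two vectors in an elementary abelian two-group. -/
theorem eq_zero_or_of_thin {C : Type} [AddCommGroup C] [Finite C] (hC : Thin C) {c d : C} (hc : 2 • c = 0)
    (hd : 2 • d = 0) : c = 0 ∨ d = 0 ∨ c = d := by
  classical
  by_contra h
  push Not at h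
  obtain ⟨h1, h2, h3⟩ := h
  have hinj : Function.Injective
      (![⟨0, nsmul_zero 2⟩, ⟨c, hc⟩, ⟨d, hd⟩] : Fin 3 → {x : C // 2 • x = 0}) := by
    intro i j hij
    have hij' := congrArg Subtype.val hij
    fin_cases i <;> fin_cases j <;> simp_all
  have hcard := Nat.card_le_card_of_injective _ hinj
  rw [Nat.card_fin] at hcard
  have := hC 2 two_pos
  omega

variable {A W C : Type} [Group A] [Finite A] [AddCommGroup W] [Finite W] [DistribMulAction A W]
  [FaithfulSMul A W] [AddCommGroup C] [Finite C] (B : Form W C)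

set_option maxHeartbeats 1000000 in
/-- The isometry groups act faithfully on at most six points. -/
theorem exists_six_embedding (hC : Thin C) (hW : ∀ x : W, (2 : ℕ) • x = 0)
    (hcard : Nat.card W = 16) (hinv : ∀ (a : A) x y, B.form (a • x) (a • y) = B.form x y) :
    ∃ (Q : Type) (_ : Finite Q) (f : A →* Equiv.Perm Q), Function.Injective f ∧ Nat.card Q ≤ 6 := by
  classical
  haveI : Fact (Nat.Prime 2) := ⟨Nat.prime_two⟩
  haveI : Nontrivial W := Finite.one_lt_card_iff_nontrivial.1 (by omega)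
  set χ : C → ZMod 2 := fun c => if c = 0 then 0 else 1 with hχ
  have hval : ∀ x y : W, (2 : ℕ) • B.form x y = 0 := fun x y => by rw [← map_nsmul, hW, map_zero]
  set β : W → W → ZMod 2 := fun x y => χ (B.form x y) with hβ
  have hadd : ∀ x y z : W, β x (y + z) = β x y + β x z := fun x y z => by
    simp only [hβ, hχ, map_add]
    rcases eq_zero_or_of_thin hC (hval x y) (hval x z) with h | h | h
    · simp [h]
    · simp [h]
    · rw [h, ← two_nsmul, hval, if_pos rfl, add_self2]
  have hsymm : ∀ x y : W, β x y = β y x := fun x y => by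
    simp only [hβ, hχ]
    rw [B.swap x y]
    simp
  have hzero : ∀ x : W, β x 0 = 0 := fun x => by simp [hβ, hχ]
  -- a basis
  obtain ⟨x₁, hx₁⟩ := exists_ne (0 : W)
  obtain ⟨y₁, h₁⟩ := B.exists_ne hx₁
  obtain ⟨H, hxH, hyH, hH, hHn, -⟩ := B.exists_plane (p := 2) hW h₁
  have hP := B.card_perp hC H
  rw [hH, hcard] at hP
  set P := B.perp H with hPdef
  haveI : Nontrivial P := Finite.one_lt_card_iff_nontrivial.1 (by omega)
  obtain ⟨⟨x₂, hx₂P⟩, hx₂⟩ := exists_ne (0 : P)
  obtain ⟨⟨y₂, hy₂P⟩, h₂⟩ := (B.restrict hC (B.perp_inf_perp hC hHn)).exists_ne hx₂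
  have h₂' : B.form x₂ y₂ ≠ 0 := h₂
  have cross : ∀ h ∈ H, ∀ w ∈ P, β h w = 0 ∧ β w h = 0 := fun h hh w hw => by
    have e : β h w = 0 := by simp only [hβ, hχ, hw h hh, if_pos]
    exact ⟨e, hsymm w h ▸ e⟩
  have hdiag : ∀ x, β x x = 0 := fun x => by simp [hβ, hχ, B.alt]
  have hone₁ : β x₁ y₁ = 1 := by simp [hβ, hχ, h₁]
  have hone₂ : β x₂ y₂ = 1 := by simp [hβ, hχ, h₂']
  set L : V4 → W := fun u => (u 0).val • x₁ + (u 1).val • y₁ + ((u 2).val • x₂ + (u 3).val • y₂) with hL
  have hnsmul : ∀ (k : ℕ) (x y : W), β x (k • y) = k • β x y := fun k x y => by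
    induction k with
    | zero => rw [zero_smul, zero_smul, hzero]
    | succ k ih => rw [succ_nsmul, hadd, ih, succ_nsmul]
  have hnsmul' : ∀ (k : ℕ) (x y : W), β (k • y) x = k • β y x := fun k x y => by rw [hsymm, hnsmul, hsymm]
  have hadd' : ∀ x y z : W, β (y + z) x = β y x + β z x := fun x y z => by
    rw [hsymm, hadd, hsymm x, hsymm x]
  have hLB : ∀ u v, β (L u) (L v) = stdB u v := fun u v => by
    simp only [hL, hadd, hadd', hnsmul, hnsmul', hdiag, hone₁, hone₂, hsymm y₁ x₁, hsymm y₂ x₂,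
      (cross x₁ hxH x₂ hx₂P).1, (cross x₁ hxH x₂ hx₂P).2, (cross x₁ hxH y₂ hy₂P).1, (cross x₁ hxH y₂ hy₂P).2,
      (cross y₁ hyH x₂ hx₂P).1, (cross y₁ hyH x₂ hx₂P).2, (cross y₁ hyH y₂ hy₂P).1, (cross y₁ hyH y₂ hy₂P).2,
      stdB, nsmul_eq_mul, ZMod.natCast_zmod_val]
    ring
  have hmod : ∀ (z : W) (a b : ZMod 2), (a + b).val • z = a.val • z + b.val • z := fun z a b => by
    rw [ZMod.val_add, ← add_nsmul]
    conv_rhs => rw [← Nat.mod_add_div (a.val + b.val) 2, add_nsmul, mul_nsmul, hW, smul_zero, add_zero]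
  have hLadd : ∀ u v, L (u + v) = L u + L v := fun u v => by
    simp only [hL, Pi.add_apply, hmod]; abel
  have hLinj : Function.Injective L := fun u v huv => by
    have h0 : ∀ z, stdB (u + v) z = 0 := fun z => by
      rw [← hLB, hLadd, huv, ← two_nsmul, hW, hsymm, hzero]
    have h := stdB_nondeg _ h0
    rw [← sub_eq_zero]
    rw [sub_eq_add4, h]
  have hLbij : Function.Bijective L :=
    (Nat.bijective_iff_injective_and_card L).2 ⟨hLinj, by simp [hcard]⟩
  -- the quadratic forms
  let IsQ : (W → ZMod 2) → Prop := fun f =>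
    (∀ x y, f (x + y) = f x + f y + β x y) ∧ Nat.card {x : W // f x = 0} = 6
  let Q : Type := {f : W → ZMod 2 // IsQ f}
  have hform : ∀ f : Q, ∃ a ∈ minusType, ∀ u, (f : W → ZMod 2) (L u) = qv a u := by
    intro f
    set a : V4 := fun i => (f : W → ZMod 2) (L (em i 1)) with ha
    set g : V4 → ZMod 2 := fun u => (f : W → ZMod 2) (L u) + qv a u with hg
    have hgadd : ∀ u v, g (u + v) = g u + g v := fun u v => by
      simp only [hg, hLadd, f.2.1, qv_polar, hLB]
      exact five_terms _ _ _ _ _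
    have hg0 : g 0 = 0 := by
      have := hgadd 0 0
      rw [add_zero] at this
      exact left_eq_add.1 this
    have hgem : ∀ i c, g (em i c) = 0 := fun i c => by
      rcases two_cases c with rfl | rfl
      · rw [show em i 0 = 0 from Pi.single_zero i]; exact hg0
      · simp only [hg, qv_em, ha]
        exact add_self2 _
    have hfq : ∀ u, (f : W → ZMod 2) (L u) = qv a u := fun u => by
      have h : g u = 0 := by
        rw [eq_sum_em u, hgadd, hgadd, hgadd, hgem, hgem, hgem, hgem]; rfl
      simp only [hg] at h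
      exact eq_of_add2 _ _ h
    refine ⟨a, Finset.mem_filter.2 ⟨Finset.mem_univ _, ?_⟩, hfq⟩
    rw [← Fintype.card_subtype, ← Nat.card_eq_fintype_card, ← f.2.2]
    exact Nat.card_congr ((Equiv.ofBijective L hLbij).subtypeEquiv fun u => by
      show qv a u = 0 ↔ (f : W → ZMod 2) (L u) = 0
      rw [hfq])
  have hQ6 : Nat.card Q ≤ 6 := by
    choose a ha hfa using hform
    rw [← card_minusType, ← Fintype.card_coe, ← Nat.card_eq_fintype_card]
    refine Nat.card_le_card_of_injective (fun f => (⟨a f, ha f⟩ : minusType)) fun f f' h => ?_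
    refine Subtype.ext (funext fun x => ?_)
    obtain ⟨u, rfl⟩ := hLbij.2 x
    rw [hfa, hfa]
    have h' : a f = a f' := congrArg Subtype.val h
    rw [h']
  haveI : Finite Q := Subtype.finite
  -- the action
  have hQinv : ∀ (a : A) (f : Q), IsQ fun x => (f : W → ZMod 2) (a⁻¹ • x) := fun a f => by
    refine ⟨fun x y => ?_, ?_⟩
    · show (f : W → ZMod 2) (a⁻¹ • (x + y)) = _
      rw [smul_add, f.2.1]
      simp only [hβ, hinv]
    · rw [← f.2.2]
      exact Nat.card_congr ((MulAction.toPerm a⁻¹).subtypeEquiv fun x => Iff.rfl)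
  letI : MulAction A Q :=
    { smul := fun a f => ⟨fun x => (f : W → ZMod 2) (a⁻¹ • x), hQinv a f⟩
      one_smul := fun f => Subtype.ext (funext fun x => by
        show (f : W → ZMod 2) ((1 : A)⁻¹ • x) = _
        rw [inv_one, one_smul])
      mul_smul := fun a b f => Subtype.ext (funext fun x => by
        show (f : W → ZMod 2) ((a * b)⁻¹ • x) = (f : W → ZMod 2) (b⁻¹ • a⁻¹ • x)
        rw [mul_inv_rev, mul_smul]) }
  have hfaith : Function.Injective (MulAction.toPermHom A Q) := by
    rw [← MonoidHom.ker_eq_bot_iff, eq_bot_iff]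
    intro a ha
    refine Subgroup.mem_bot.2 (inv_eq_one.1 (eq_of_smul_eq_smul fun x : W => ?_))
    obtain ⟨u, hu⟩ := hLbij.2 (a⁻¹ • x)
    obtain ⟨v, rfl⟩ := hLbij.2 x
    rw [one_smul, ← hu]
    refine congrArg L (minusType_separates u v fun c hc => ?_)
    set Einv := (Equiv.ofBijective L hLbij).symm with hE
    have hEL : ∀ w, Einv (L w) = w := fun w => (Equiv.ofBijective L hLbij).symm_apply_apply w
    have hq : IsQ fun w => qv c (Einv w) := by
      refine ⟨fun w z => ?_, ?_⟩
      · obtain ⟨w', rfl⟩ := hLbij.2 w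
        obtain ⟨z', rfl⟩ := hLbij.2 z
        simp only [← hLadd, hEL, qv_polar, hLB]
      · have h6 := (Finset.mem_filter.1 hc).2
        rw [← Fintype.card_subtype, ← Nat.card_eq_fintype_card] at h6
        rw [← h6]
        exact Nat.card_congr (Einv.subtypeEquiv fun w => Iff.rfl)
    have h := congrFun (congrArg Subtype.val (Equiv.congr_fun (MonoidHom.mem_ker.1 ha) (⟨fun w => qv c (Einv w), hq⟩ : Q))) (L v)
    change qv c (Einv (a⁻¹ • L v)) = qv c (Einv (L v)) at h
    rwa [← hu, hEL, hEL] at h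
  exact ⟨Q, inferInstance, _, hfaith, hQ6⟩

/-- The solvable isometry groups. -/
theorem subClassLE_four [Group.IsSolvable A] (hC : Thin C) (hW : ∀ x : W, (2 : ℕ) • x = 0)
    (hcard : Nat.card W = 16) (hinv : ∀ (a : A) x y, B.form (a • x) (a • y) = B.form x y) :
    SubClassLE A 24 := by
  obtain ⟨Q, _, f, hf, hQ6⟩ := exists_six_embedding B hC hW hcard hinv
  refine (subClassLE_of_perm f hf).mono ?_
  generalize hk : Nat.card Q = k at hQ6
  interval_cases k <;> decide

end Cfsg.Lib.Solv.ClassCount
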