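import Cfsg.Agent.Lib.Solv.ClassCount.Plane
import Cfsg.Agent.Lib.Solv.ClassCount.Six
import Cfsg.Agent.Lib.Core.PSolvable
import Cfsg.Agent.Lib.OddBase.Eigen

/-!
# Solvable irreducible isometry groups of six-dimensional spaces over the field with two elements
-/

set_option autoImplicit false
set_option linter.style.haveILetI false
set_option linter.unusedSectionVars false

namespace Cfsg.Lib.Solv.ClassCount

open Cfsg.Lib.OddBase Cfsg.Lib.Core MulAction
open scoped Pointwise

theorem thin_zmod_two : Thin (ZMod 2) := fun n hn => by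
  rcases (show n = 1 ∨ 2 ≤ n by omega) with rfl | h
  · exact Finite.card_le_one_iff_subsingleton.2 ⟨fun a b => Subtype.ext (by
      have ha := a.2
      have hb := b.2
      rw [one_nsmul] at ha hb
      rw [ha, hb])⟩
  · exact (Nat.card_le_card_of_injective _ Subtype.val_injective).trans (by simpa using h)

/-- Counting through a map whose fibres lie in cosets. -/
theorem card_le_fibre {A X : Type*} [Group A] [Finite A] [Finite X] (H S : Subgroup A) (f : H → X)
    (h : ∀ a c : H, f a = f c → (a : A)⁻¹ * c ∈ S) : Nat.card H ≤ Nat.card X * Nat.card S := by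
  rw [← Nat.card_prod]
  have hr : ∀ a : H, f (Function.invFun f (f a)) = f a := fun a => Function.invFun_eq ⟨a, rfl⟩
  refine Nat.card_le_card_of_injective
    (fun a : H => (f a, (⟨((Function.invFun f (f a) : H) : A)⁻¹ * a, h _ _ (hr a)⟩ : S))) fun a c hac => ?_
  have h1 : f a = f c := congrArg Prod.fst hac
  have h2 : ((Function.invFun f (f a) : H) : A)⁻¹ * a = ((Function.invFun f (f c) : H) : A)⁻¹ * c :=
    congrArg (fun z : X × S => (z.2 : A)) hac
  rw [h1] at h2
  exact Subtype.ext (mul_left_cancel h2)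

/-- One of two values is taken at most half of the time. -/
theorem exists_minority {X : Type*} [Finite X] (q : X → ZMod 2) (h : ∃ x y, q x ≠ q y) :
    ∃ x, 2 * Nat.card {y // q y = q x} ≤ Nat.card X := by
  classical
  obtain ⟨x, y, hxy⟩ := h
  haveI := Fintype.ofFinite X
  have hpart : Nat.card {z // q z = q x} + Nat.card {z // q z = q y} ≤ Nat.card X := by
    rw [← Nat.card_sum]
    refine Nat.card_le_card_of_injective (Sum.elim Subtype.val Subtype.val)
      (Function.Injective.sumElim Subtype.val_injective Subtype.val_injective fun a b hab => ?_)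
    exact hxy (a.2.symm.trans ((congrArg q hab).trans b.2))
  rcases le_total (Nat.card {z // q z = q x}) (Nat.card {z // q z = q y}) with h | h
  · exact ⟨x, by omega⟩
  · exact ⟨y, by omega⟩

/-- The form with values in the field with two elements. -/
noncomputable def Form.toTwo {W C : Type} [AddCommGroup W] [AddCommGroup C] [Finite C] (B : Form W C)
    (hC : Thin C) (hW : ∀ x : W, (2 : ℕ) • x = 0) : Form W (ZMod 2) := by
  classical
  exact
  { form := AddMonoidHom.mk' (fun x => AddMonoidHom.mk' (fun y => if B.form x y = 0 then (0 : ZMod 2) else 1)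
      (fun y z => by
        have hv : ∀ u, (2 : ℕ) • B.form x u = 0 := fun u => by rw [← map_nsmul, hW, map_zero]
        simp only [map_add]
        rcases eq_zero_or_of_thin hC (hv y) (hv z) with h | h | h
        · simp [h]
        · simp [h]
        · rw [h, ← two_nsmul, hv, if_pos rfl, add_self2]))
      (fun x x' => AddMonoidHom.ext fun y => by
        have hv : ∀ u, (2 : ℕ) • B.form u y = 0 := fun u => by
          rw [← AddMonoidHom.nsmul_apply, ← map_nsmul, hW, map_zero, AddMonoidHom.zero_apply]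
        simp only [AddMonoidHom.mk'_apply, map_add, AddMonoidHom.add_apply]
        rcases eq_zero_or_of_thin hC (hv x) (hv x') with h | h | h
        · simp [h]
        · simp [h]
        · rw [h, ← two_nsmul, hv, if_pos rfl, add_self2])
    alt := fun x => by simp [B.alt]
    nondeg := fun x h => B.nondeg x fun y => by simpa using h y }

theorem Form.toTwo_inv {A W C : Type} [SMul A W] [AddCommGroup W] [AddCommGroup C] [Finite C] (B : Form W C)
    (hC : Thin C) (hW : ∀ x : W, (2 : ℕ) • x = 0)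
    (hinv : ∀ (a : A) x y, B.form (a • x) (a • y) = B.form x y) :
    ∀ (a : A) x y, (B.toTwo hC hW).form (a • x) (a • y) = (B.toTwo hC hW).form x y := fun a x y => by
  classical
  exact if_congr (by rw [hinv]) rfl rfl

variable {A W : Type} [Group A] [Finite A] [AddCommGroup W] [Finite W] [DistribMulAction A W]
  [FaithfulSMul A W] (β : Form W (ZMod 2)) (hinv : ∀ (a : A) x y, β.form (a • x) (a • y) = β.form x y)

theorem neg_two : ∀ c : ZMod 2, -c = c := by decide

theorem Form.symm (x y : W) : β.form y x = β.form x y := by rw [β.swap, neg_two]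

include hinv in
/-- The polar form of the quadratic form attached to a fixed-point-free element of odd order. -/
def Form.polar (hW : ∀ x : W, (2 : ℕ) • x = 0) (b : A) {k : ℕ} (hb : b ^ (2 * k + 1) = 1)
    (hfpf : ∀ w : W, b • w = w → w = 0) : Form W (ZMod 2) where
  form := AddMonoidHom.mk'
    (fun x => AddMonoidHom.mk' (fun y => β.form x (b • y) + β.form x (b⁻¹ • y))
      (fun y z => by simp only [smul_add, map_add]; abel))
    (fun x x' => AddMonoidHom.ext fun y => by
      simp only [AddMonoidHom.mk'_apply, map_add, AddMonoidHom.add_apply]; abel)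
  alt x := by
    show β.form x (b • x) + β.form x (b⁻¹ • x) = 0
    rw [← hinv b x (b⁻¹ • x), smul_inv_smul, β.symm x (b • x), add_self2]
  nondeg x h := by
    have hinj : Function.Injective fun y : W => b • y + b⁻¹ • y := by
      intro y z hyz
      rw [← sub_eq_zero]
      set w := y - z with hwdef
      have hw : b • w + b⁻¹ • w = 0 := by
        simp only [hwdef, smul_sub]
        simp only at hyz
        rw [← sub_self (b • z + b⁻¹ • z)]
        nth_rewrite 1 [← hyz]
        abel
      have h2 : b • b • w = w := by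
        have hneg : ∀ v : W, -v = v := fun v => by rw [neg_eq_iff_add_eq_zero, ← two_nsmul, hW]
        rw [add_eq_zero_iff_eq_neg, hneg] at hw
        rw [hw, smul_inv_smul]
      have h3 : ∀ j : ℕ, b ^ (2 * j) • w = w := fun j => by
        induction j with
        | zero => simp
        | succ j ih => rw [show 2 * (j + 1) = 2 * j + 1 + 1 by ring, pow_succ, pow_succ, mul_smul, mul_smul, h2, ih]
      refine hfpf w ?_
      nth_rewrite 1 [← h3 k]
      rw [← mul_smul, ← pow_succ', hb, one_smul]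
    refine β.nondeg x fun y => ?_
    obtain ⟨z, rfl⟩ := Finite.surjective_of_injective hinj y
    show β.form x (b • z + b⁻¹ • z) = 0
    rw [map_add]
    exact h z

include hinv in
/-- The quadratic form is not constant on a large coset. -/
theorem exists_values (hW : ∀ x : W, (2 : ℕ) • x = 0) (b : A) {k : ℕ} (hb : b ^ (2 * k + 1) = 1)
    (hfpf : ∀ w : W, b • w = w → w = 0) (U : AddSubgroup W)
    (hU : Nat.card W < Nat.card U * Nat.card U) (h8 : 8 ≤ Nat.card U) (u : W) :
    ∃ x y : W, x - u ∈ U ∧ y - u ∈ U ∧ x ≠ 0 ∧ y ≠ 0 ∧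
      β.form x (b • x) ≠ β.form y (b • y) := by
  classical
  by_contra h
  push Not at h
  set P := β.polar hinv hW b hb hfpf with hP
  set q : W → ZMod 2 := fun x => β.form x (b • x) with hq
  have hadd : ∀ x y, q (x + y) = q x + q y + P.form x y := fun x y => by
    show β.form (x + y) (b • (x + y)) = β.form x (b • x) + β.form y (b • y) +
      (β.form x (b • y) + β.form x (b⁻¹ • y))
    rw [smul_add, map_add, map_add, AddMonoidHom.add_apply, AddMonoidHom.add_apply]
    rw [← hinv b x (b⁻¹ • y), smul_inv_smul, β.symm y (b • x)]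
    abel
  have key : ∀ y ∈ U, ∀ y' ∈ U, P.form y y' = 0 := by
    rcases Classical.em (u ∈ U) with hu | hu
    · have hc : ∀ x ∈ U, x ≠ 0 → ∀ y ∈ U, y ≠ 0 → q x = q y := fun x hx hx0 y hy hy0 =>
        h x y (sub_mem hx hu) (sub_mem hy hu) hx0 hy0
      intro y hy y' hy'
      rcases eq_or_ne y 0 with rfl | hy0
      · simp
      rcases eq_or_ne y' 0 with rfl | hy0'
      · simp
      rcases eq_or_ne y y' with rfl | hne
      · exact P.alt y
      have hsum : ∀ x ∈ U, x ≠ 0 → ∀ z ∈ U, z ≠ 0 → x ≠ z → P.form x z = q x := by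
        intro x hx hx0 z hz hz0 hxz
        have hne0 : x + z ≠ 0 := fun h0 => hxz (by
          rw [add_eq_zero_iff_eq_neg] at h0
          rw [h0, neg_eq_iff_add_eq_zero, ← two_nsmul, hW])
        have e := hadd x z
        rw [hc (x + z) (add_mem hx hz) hne0 x hx hx0, hc z hz hz0 x hx hx0, add_self2, zero_add] at e
        exact e.symm
      rw [hsum y hy hy0 y' hy' hy0' hne]
      obtain ⟨z, hzU, hz⟩ : ∃ z ∈ U, z ≠ 0 ∧ z ≠ y ∧ z ≠ y' ∧ z ≠ y + y' := by
        by_contra hall
        push Not at hall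
        have := Nat.card_le_card_of_injective
          (fun z : U => (⟨(z : W), by
            simp only [Finset.mem_insert, Finset.mem_singleton]
            by_cases h0 : (z : W) = 0
            · exact Or.inl h0
            by_cases h1 : (z : W) = y
            · exact Or.inr (Or.inl h1)
            by_cases h2 : (z : W) = y'
            · exact Or.inr (Or.inr (Or.inl h2))
            exact Or.inr (Or.inr (Or.inr (hall z z.2 h0 h1 h2)))⟩ : ({0, y, y', y + y'} : Finset W)))
          (fun a c e => Subtype.ext (congrArg (fun t : ({0, y, y', y + y'} : Finset W) => (t : W)) e))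
        rw [Nat.card_eq_fintype_card (α := ↥({0, y, y', y + y'} : Finset W)), Fintype.card_coe] at this
        have := this.trans (Finset.card_le_four)
        omega
      have e1 := hsum y hy hy0 z hzU hz.1 (Ne.symm hz.2.1)
      have hz' : y' + z ≠ 0 := fun h0 => hz.2.2.1 (by
        rw [add_eq_zero_iff_eq_neg] at h0
        rw [h0, eq_comm, neg_eq_iff_add_eq_zero, ← two_nsmul, hW])
      have hz'' : y ≠ y' + z := fun h0 => hz.2.2.2 (by
        rw [h0, add_assoc, add_comm z y', ← add_assoc, ← two_nsmul, hW, zero_add])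
      have e2 := hsum y hy hy0 (y' + z) (add_mem hy' hzU) hz' hz''
      rw [map_add, e1, hsum y hy hy0 y' hy' hy0' hne, add_self2] at e2
      exact e2.symm
    · have hne : ∀ y ∈ U, u + y ≠ 0 := fun y hy h0 => hu (by
        rw [add_eq_zero_iff_eq_neg.1 h0]; exact neg_mem hy)
      have hc : ∀ y ∈ U, q (u + y) = q u := fun y hy => h _ _ (by simpa using hy) (by simp)
        (hne y hy) (fun h0 => hu (h0 ▸ U.zero_mem))
      intro y hy y' hy'
      have e1 := hadd (u + y) y'
      rw [add_assoc, hc _ (add_mem hy hy'), hc _ hy, map_add, AddMonoidHom.add_apply] at e1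
      have e2 := hadd u y'
      rw [hc _ hy'] at e2
      have : ∀ a c d e : ZMod 2, a = a + c + (d + e) → a = a + c + d → e = 0 := by decide
      exact this _ _ _ _ e1 e2
  have h1 : U ≤ P.perp U := fun y hy v hv => key v hv y hy
  have h2 := P.card_perp thin_zmod_two U
  have h3 := AddSubgroup.card_le_of_le h1
  nlinarith

theorem card_modEq_one {ℓ : ℕ} [Fact ℓ.Prime] (b : A) (hb : b ^ ℓ = 1) (hfpf : ∀ w : W, b • w = w → w = 0)
    (S : AddSubgroup W) (hS : ∀ x ∈ S, b • x ∈ S) : Nat.card S ≡ 1 [MOD ℓ] := by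
  set Z := Subgroup.zpowers b
  have hSZ : ∀ c : Z, ∀ x ∈ S, c • x ∈ S := by
    rintro ⟨c, hc⟩ x hx
    obtain ⟨j, rfl⟩ := mem_powers_iff_mem_zpowers.2 hc
    show b ^ j • x ∈ S
    induction j with
    | zero => simpa using hx
    | succ j ih => rw [pow_succ', mul_smul]; exact hS _ (ih (Subgroup.npow_mem_zpowers b j))
  letI := subAct (A := Z) S hSZ
  have hpg : IsPGroup ℓ Z := fun c => ⟨1, Subtype.ext (by
    obtain ⟨j, hj⟩ := c.2
    rw [pow_one, Subgroup.coe_pow, Subgroup.coe_one, ← hj]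
    show (b ^ j) ^ ℓ = 1
    rw [← zpow_natCast, zpow_comm, zpow_natCast, hb, one_zpow])⟩
  refine (hpg.card_modEq_card_fixedPoints S).trans ?_
  have : Nat.card (fixedPoints Z S) = 1 := by
    refine Nat.card_eq_one_iff_unique.2 ⟨⟨fun x y => ?_⟩, ⟨⟨0, fun c => smul_zero c⟩⟩⟩
    have hz : ∀ z : fixedPoints Z S, ((z : S) : W) = 0 := fun z =>
      hfpf _ (congrArg Subtype.val (z.2 ⟨b, Subgroup.mem_zpowers b⟩))
    exact Subtype.ext (Subtype.ext ((hz x).trans (hz y).symm))
  rw [this]

set_option maxHeartbeats 1000000 in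
include hinv in
/-- The centraliser of a fixed-point-free element of order three or seven. -/
theorem card_centralizer_fpf (hW : ∀ x : W, (2 : ℕ) • x = 0) (hcard : Nat.card W = 64) (b : A) {ℓ : ℕ}
    [Fact ℓ.Prime] (hb : b ^ ℓ = 1) (hℓ : ℓ = 3 ∨ ℓ = 7) (hfpf : ∀ w : W, b • w = w → w = 0) :
    Nat.card (Subgroup.centralizer ({b} : Set A)) * (ℓ - 1) ≤ 2187 := by
  classical
  obtain ⟨k, hk⟩ : ∃ k, b ^ (2 * k + 1) = 1 := by
    rcases hℓ with rfl | rfl
    · exact ⟨1, hb⟩
    · exact ⟨3, hb⟩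
  set A₀ := Subgroup.centralizer ({b} : Set A) with hA₀
  set q : W → ZMod 2 := fun x => β.form x (b • x) with hq
  have hcm : ∀ a ∈ A₀, a * b = b * a := fun a ha => (Subgroup.mem_centralizer_singleton_iff.1 ha)
  have hqinv : ∀ a ∈ A₀, ∀ x, q (a • x) = q x := fun a ha x => by
    show β.form (a • x) (b • a • x) = _
    rw [← mul_smul, ← hcm a ha, mul_smul, hinv]
  have hsize : ∀ S : AddSubgroup W, (∀ x ∈ S, b • x ∈ S) → S ≠ ⊥ →
      (ℓ = 3 ∧ (Nat.card S = 4 ∨ Nat.card S = 16 ∨ Nat.card S = 64)) ∨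
      (ℓ = 7 ∧ (Nat.card S = 8 ∨ Nat.card S = 64)) := by
    intro S hS hne
    have h1 := card_modEq_one b hb hfpf S hS
    have h2 : Nat.card S ∣ 2 ^ 6 := by
      rw [show (2 : ℕ) ^ 6 = 64 by norm_num, ← hcard]
      exact AddSubgroup.card_addSubgroup_dvd_card S
    have h3 : Nat.card S ≠ 1 := fun h => hne (AddSubgroup.eq_bot_of_card_eq S h)
    obtain ⟨i, hi, e⟩ := (Nat.dvd_prime_pow Nat.prime_two).1 h2
    rw [e] at h1 h3 ⊢
    rcases hℓ with rfl | rfl
    · refine Or.inl ⟨rfl, ?_⟩
      clear_value q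
      interval_cases i <;> revert h1 h3 <;> decide
    · refine Or.inr ⟨rfl, ?_⟩
      clear_value q
      interval_cases i <;> revert h1 h3 <;> decide
  have hfix : ∀ H : Subgroup A, H ≤ A₀ → ∀ x ∈ fixAdd W H, b • x ∈ fixAdd W H := fun H hH x hx a ha => by
    rw [← mul_smul, hcm a (hH ha), mul_smul, hx a ha]
  have htop : ∀ H : Subgroup A, Nat.card (fixAdd W H) = 64 → Nat.card H = 1 := fun H h => by
    have hT : fixAdd W H = ⊤ := AddSubgroup.eq_top_of_card_eq _ (h.trans hcard.symm)
    refine Subgroup.card_eq_one.2 ((Subgroup.eq_bot_iff_forall _).2 fun a ha =>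
      eq_of_smul_eq_smul fun w : W => ?_)
    rw [one_smul]
    exact (hT ▸ AddSubgroup.mem_top w : w ∈ fixAdd W H) a ha
  have horb : ∀ H : Subgroup A, ∀ u : W, ∀ a ∈ H, a • u - u ∈ β.perp (fixAdd W H) := fun H u a ha s hs => by
    have h := hinv a s u
    rw [hs a ha] at h
    rw [map_sub, sub_eq_zero, h]
  have hstep : ∀ H : Subgroup A, ∀ u : W,
      Nat.card H ≤ Nat.card (β.perp (fixAdd W H)) * Nat.card ↥(H ⊓ stabilizer A u) := fun H u =>
    card_le_fibre H _ (fun a => (⟨(a : A) • u - u, horb H u a a.2⟩ : β.perp (fixAdd W H))) fun a c hac => by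
      have e : (a : A) • u = (c : A) • u := sub_left_inj.1 (congrArg Subtype.val hac)
      refine Subgroup.mem_inf.2 ⟨mul_mem (inv_mem a.2) c.2, ?_⟩
      rw [mem_stabilizer_iff, mul_smul, ← e, inv_smul_smul]
  -- the first vector
  obtain ⟨x, y, -, -, hx0, hy0, hxy⟩ := exists_values β hinv hW b hk hfpf ⊤
    (by rw [AddSubgroup.card_top, hcard]; norm_num) (by rw [AddSubgroup.card_top, hcard]; norm_num) 0
  haveI := Fintype.ofFinite W
  obtain ⟨⟨v₁, hv₁⟩, hv₁c⟩ := exists_minority (fun z : {z : W // z ≠ 0} => q z)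
    ⟨⟨x, hx0⟩, ⟨y, hy0⟩, hxy⟩
  have hne0 : Nat.card {z : W // z ≠ 0} = 63 := by
    rw [Nat.card_eq_fintype_card, Fintype.card_subtype_compl, Fintype.card_subtype_eq,
      ← Nat.card_eq_fintype_card, hcard]
  rw [hne0] at hv₁c
  simp only at hv₁c
  set A₁ := A₀ ⊓ stabilizer A v₁ with hA₁
  have hA₁le : A₁ ≤ A₀ := inf_le_left
  have h01 : Nat.card A₀ ≤ 31 * Nat.card A₁ :=
    (card_le_fibre A₀ A₁ (fun a => (⟨⟨(a : A) • v₁, smul_ne_zero_iff_ne _ |>.2 hv₁⟩,
      hqinv a a.2 v₁⟩ : {z : {z : W // z ≠ 0} // q z = q v₁})) fun a c hac => by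
      have e : (a : A) • v₁ = (c : A) • v₁ :=
        congrArg (fun t : {z : {z : W // z ≠ 0} // q z = q v₁} => ((t : {z : W // z ≠ 0}) : W)) hac
      refine Subgroup.mem_inf.2 ⟨mul_mem (inv_mem a.2) c.2, ?_⟩
      rw [mem_stabilizer_iff, mul_smul, ← e, inv_smul_smul]).trans
      (Nat.mul_le_mul_right _ (by omega))
  have hv₁S : v₁ ∈ (fixAdd W A₁) := fun a ha => (Subgroup.mem_inf.1 ha).2
  have hS₁ne : (fixAdd W A₁) ≠ ⊥ := fun h => hv₁ (AddSubgroup.mem_bot.1 (h ▸ hv₁S))
  have hperp : ∀ S : AddSubgroup W, Nat.card S * Nat.card (β.perp S) = 64 :=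
    fun S => hcard ▸ β.card_perp thin_zmod_two S
  -- a subgroup enlarging the fixed space
  have hgrow : ∀ H : Subgroup A, ∀ u : W, u ∉ fixAdd W H →
      fixAdd W H < fixAdd W (H ⊓ stabilizer A u) := fun H u hu =>
    lt_of_le_of_ne (fun z hz a ha => hz a (Subgroup.mem_inf.1 ha).1) fun e =>
      hu (e ▸ (fun a ha => (Subgroup.mem_inf.1 ha).2 : u ∈ fixAdd W (H ⊓ stabilizer A u)))
  have hlt : ∀ S T : AddSubgroup W, S < T → Nat.card S < Nat.card T := fun S T hST =>
    Set.ncard_lt_ncard (SetLike.coe_ssubset_coe.2 hST) (Set.toFinite _)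
  have houtside : ∀ S : AddSubgroup W, Nat.card S < 64 → ∃ u, u ∉ S := fun S hS => by
    by_contra hall
    push Not at hall
    rw [(eq_top_iff.2 fun z _ => hall z : S = ⊤), AddSubgroup.card_top, hcard] at hS
    omega
  rcases hsize (fixAdd W A₁) (hfix A₁ hA₁le) hS₁ne with ⟨rfl, h⟩ | ⟨rfl, h⟩
  · -- order three
    have hfinish : ∀ H : Subgroup A, H ≤ A₀ → 16 ≤ Nat.card (fixAdd W H) → Nat.card H ≤ 4 := by
      intro H hH h16
      rcases hsize _ (hfix H hH) (fun h => by rw [h] at h16; simp at h16) with ⟨-, h'⟩ | ⟨h', -⟩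
      · rcases h' with h' | h' | h'
        · omega
        · obtain ⟨u, hu⟩ := houtside _ (h'.trans_lt (by norm_num))
          have h2 := hlt _ _ (hgrow H u hu)
          have hHu : H ⊓ stabilizer A u ≤ A₀ := inf_le_left.trans hH
          have h3 : Nat.card (fixAdd W (H ⊓ stabilizer A u)) = 64 := by
            rcases hsize _ (hfix _ hHu) (fun h => by rw [h] at h2; simp at h2) with ⟨-, h4⟩ | ⟨h4, -⟩
            · omega
            · omega
          have := hstep H u
          rw [htop _ h3] at this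
          have := hperp (fixAdd W H)
          rw [h'] at this
          omega
        · rw [htop H h']; norm_num
      · omega
    rcases h with h4 | h'
    · -- the second vector
      have hP16 : Nat.card (β.perp (fixAdd W A₁)) = 16 := by
        have := hperp (fixAdd W A₁)
        rw [h4] at this
        omega
      obtain ⟨u, hu⟩ : ∃ u : W, ∀ z ∈ (fixAdd W A₁), z - u ∈ β.perp (fixAdd W A₁) → z = 0 := by
        rcases eq_or_ne ((fixAdd W A₁) ⊓ β.perp (fixAdd W A₁)) ⊥ with hd | hd
        · exact ⟨0, fun z hz hz' => AddSubgroup.mem_bot.1 (hd ▸ ⟨hz, by simpa using hz'⟩)⟩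
        · have hb' : ∀ z ∈ (fixAdd W A₁) ⊓ β.perp (fixAdd W A₁), b • z ∈ (fixAdd W A₁) ⊓ β.perp (fixAdd W A₁) := fun z hz => by
            refine ⟨hfix A₁ hA₁le z hz.1, fun s hs => ?_⟩
            have hs' : b⁻¹ • s ∈ (fixAdd W A₁) := fun a ha => by
              have hcomm : a * b⁻¹ = b⁻¹ * a := (Commute.inv_right (hcm a (hA₁le ha) : Commute a b)).eq
              rw [← mul_smul, hcomm, mul_smul, hs a ha]
            rw [← hinv b⁻¹, inv_smul_smul]
            exact hz.2 _ hs'
          have heq : (fixAdd W A₁) ⊓ β.perp (fixAdd W A₁) = (fixAdd W A₁) := by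
            refine AddSubgroup.eq_of_le_of_card_ge inf_le_left ?_
            rcases hsize _ hb' hd with ⟨-, h5⟩ | ⟨h5, -⟩
            · omega
            · omega
          obtain ⟨u, hu⟩ := houtside (β.perp (fixAdd W A₁)) (by omega)
          refine ⟨u, fun z hz hz' => absurd ?_ hu⟩
          have := sub_mem (AddSubgroup.mem_inf.1 (heq.symm ▸ hz : z ∈ (fixAdd W A₁) ⊓ β.perp (fixAdd W A₁))).2 hz'
          rwa [sub_sub_cancel] at this
      obtain ⟨x, y, hx, hy, hx0, hy0, hxy⟩ := exists_values β hinv hW b hk hfpf (β.perp (fixAdd W A₁))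
        (by rw [hP16, hcard]; norm_num) (by omega) u
      obtain ⟨⟨v₂, hv₂, hv₂0⟩, hv₂c⟩ := exists_minority
        (fun z : {z : W // z - u ∈ β.perp (fixAdd W A₁) ∧ z ≠ 0} => q z) ⟨⟨x, hx, hx0⟩, ⟨y, hy, hy0⟩, hxy⟩
      simp only at hv₂c
      have hX : Nat.card {z : W // z - u ∈ β.perp (fixAdd W A₁) ∧ z ≠ 0} ≤ 16 := hP16 ▸
        Nat.card_le_card_of_injective (fun z => (⟨(z : W) - u, z.2.1⟩ : β.perp (fixAdd W A₁)))
          fun z z' e => Subtype.ext (sub_left_inj.1 (congrArg Subtype.val e))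
      have h12 : Nat.card A₁ ≤ 8 * Nat.card ↥(A₁ ⊓ stabilizer A v₂) :=
        (card_le_fibre A₁ (A₁ ⊓ stabilizer A v₂) (fun a => (⟨⟨(a : A) • v₂, by
            have := add_mem (horb A₁ v₂ a a.2) hv₂
            rwa [sub_add_sub_cancel] at this, smul_ne_zero_iff_ne _ |>.2 hv₂0⟩,
          hqinv a (hA₁le a.2) v₂⟩ : {z : {z : W // z - u ∈ β.perp (fixAdd W A₁) ∧ z ≠ 0} // q z = q v₂})) fun a c hac => by
          have e : (a : A) • v₂ = (c : A) • v₂ :=
            congrArg (fun t : {z : {z : W // z - u ∈ β.perp (fixAdd W A₁) ∧ z ≠ 0} // q z = q v₂} =>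
              ((t : {z : W // z - u ∈ β.perp (fixAdd W A₁) ∧ z ≠ 0}) : W)) hac
          refine Subgroup.mem_inf.2 ⟨mul_mem (inv_mem a.2) c.2, ?_⟩
          rw [mem_stabilizer_iff, mul_smul, ← e, inv_smul_smul]).trans
          (Nat.mul_le_mul_right _ (by omega))
      have hv₂S : v₂ ∉ (fixAdd W A₁) := fun hz => hv₂0 (hu _ hz hv₂)
      have h2 := hlt _ _ (hgrow A₁ v₂ hv₂S)
      have hA₂le : A₁ ⊓ stabilizer A v₂ ≤ A₀ := inf_le_left.trans hA₁le
      have h16 : 16 ≤ Nat.card (fixAdd W (A₁ ⊓ stabilizer A v₂)) := by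
        rcases hsize _ (hfix _ hA₂le) (fun h => by rw [h] at h2; simp at h2) with ⟨-, h5⟩ | ⟨h5, -⟩
        · omega
        · omega
      have := hfinish _ hA₂le h16
      omega
    · have := hfinish A₁ hA₁le (by omega)
      omega
  · -- order seven
    rcases h with h8 | h64
    · obtain ⟨u, hu⟩ := houtside (fixAdd W A₁) (by omega)
      have h2 := hlt _ _ (hgrow A₁ u hu)
      have hA₂le : A₁ ⊓ stabilizer A u ≤ A₀ := inf_le_left.trans hA₁le
      have h3 : Nat.card (fixAdd W (A₁ ⊓ stabilizer A u)) = 64 := by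
        rcases hsize _ (hfix _ hA₂le) (fun h => by rw [h] at h2; simp at h2) with ⟨h5, -⟩ | ⟨-, h5⟩
        · omega
        · omega
      have := hstep A₁ u
      rw [htop _ h3] at this
      have := hperp (fixAdd W A₁)
      rw [h8] at this
      omega
    · rw [htop _ h64] at h01
      omega

include hinv in
/-- The case of a minimal normal subgroup with fixed points. -/
theorem subClassLE_eight_fixed [Group.IsSolvable A] (hW : ∀ x : W, (2 : ℕ) • x = 0) (hcard : Nat.card W = 64)
    (hirr : Irreducible' A W) {M : Subgroup A} [M.Normal] (hMc : IsMulCommutative M) {ℓ : ℕ} (hℓ : IsPGroup ℓ M)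
    [Fact ℓ.Prime] (hℓ2 : ℓ ≠ 2) {b : A} (hbM : b ∈ M) (hb1 : b ≠ 1) {w : W} (hw : w ≠ 0) (hbw : b • w = w) :
    SubClassLE A 2187 := by
  classical
  haveI : Fact (Nat.Prime 2) := ⟨Nat.prime_two⟩
  have hcm : ∀ a ∈ M, ∀ c ∈ M, a * c = c * a := fun a ha c hc =>
    congrArg Subtype.val (mul_comm' (⟨a, ha⟩ : M) ⟨c, hc⟩)
  obtain ⟨K, hK⟩ := (Set.toFinite {K : Subgroup A | K ≤ M ∧ K ≠ ⊥ ∧ fixAdd W K ≠ ⊥}).exists_maximal
    ⟨Subgroup.zpowers b, Subgroup.zpowers_le.2 hbM, by simpa using hb1, fun h => hw (AddSubgroup.mem_bot.1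
      (h ▸ (fun c hc => by
        have : Subgroup.zpowers b ≤ stabilizer A w := Subgroup.zpowers_le.2 hbw
        exact this hc : w ∈ fixAdd W (Subgroup.zpowers b))))⟩
  obtain ⟨hKM, hKne, hUne⟩ := hK.prop
  set U := fixAdd W K with hU
  have hUM : ∀ a ∈ M, ∀ x ∈ U, a • x ∈ U := fun a ha x hx c hc => by
    rw [← mul_smul, hcm c (hKM hc) a ha, mul_smul, hx c hc]
  have hKodd : Odd (Nat.card K) := by
    obtain ⟨n, hn⟩ := IsPGroup.iff_card.1 (hℓ.to_le hKM)
    rw [hn]
    exact ((Fact.out : ℓ.Prime).odd_of_ne_two hℓ2).pow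
  haveI := Fintype.ofFinite K
  -- averaging
  set e : W → W := fun y => ∑ c : K, (c : A) • y with he
  have heU : ∀ y, e y ∈ U := fun y a ha => by
    simp only [he, Finset.smul_sum, ← mul_smul]
    exact Fintype.sum_equiv (Equiv.mulLeft ⟨a, ha⟩) _ _ fun c => rfl
  have hpair : ∀ x ∈ U, ∀ y, β.form x (e y) = β.form x y := fun x hx y => by
    obtain ⟨j, hj⟩ := hKodd
    have hterm : ∀ c : K, β.form x ((c : A) • y) = β.form x y := fun c => by
      conv_lhs => rw [← hx (c : A) c.2]
      exact hinv _ _ _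
    rw [he, map_sum, Finset.sum_congr rfl fun c _ => hterm c, Finset.sum_const, Finset.card_univ,
      ← Nat.card_eq_fintype_card, hj, add_nsmul, one_nsmul, mul_comm, mul_nsmul, two_nsmul, add_self2,
      zero_add]
  have hUn : U ⊓ β.perp U = ⊥ := eq_bot_iff.2 fun x hx => AddSubgroup.mem_bot.2 (β.nondeg x fun y => by
    rw [← hpair x hx.1, β.symm (e y) x]
    exact hx.2 _ (heU y))
  -- the conjugates of the fixed space
  have horth : ∀ a : A, a • U ≠ U → ∀ x ∈ U, ∀ y ∈ a • U, β.form x y = 0 := by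
    intro a hne x hx y hy
    set K' := K.map (MulAut.conj a).toMonoidHom with hK'
    have hK'M : K' ≤ M := by
      rintro _ ⟨c, hc, rfl⟩
      exact Subgroup.Normal.conj_mem ‹_› c (hKM hc) a
    have hU' : a • U = fixAdd W K' := smul_fixAdd K a
    rw [← hpair x hx]
    suffices e y = 0 by rw [this, map_zero]
    have h1 : e y ∈ fixAdd W K' := fun c hc => by
      simp only [he, Finset.smul_sum]
      refine Finset.sum_congr rfl fun d _ => ?_
      rw [← mul_smul, hcm c (hK'M hc) d (hKM d.2), mul_smul, (hU' ▸ hy : y ∈ fixAdd W K') c hc]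
    have h2 : e y ∈ fixAdd W (K ⊔ K') := fun c hc => by
      have hle : K ⊔ K' ≤ stabilizer A (e y) := sup_le (fun d hd => heU y d hd) fun d hd => h1 d hd
      exact hle hc
    by_contra h0
    have hle : K ⊔ K' ≤ K := hK.2 ⟨sup_le hKM hK'M, fun h => hKne (le_bot_iff.1 (h ▸ le_sup_left)),
      fun h => h0 (AddSubgroup.mem_bot.1 (h ▸ h2))⟩ le_sup_left
    have hKK : K' = K := Subgroup.eq_of_le_of_card_ge (le_sup_right.trans hle)
      (Nat.card_congr (K.equivMapOfInjective _ (MulAut.conj a).injective).toEquiv).le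
    exact hne (by rw [hU', hKK])
  let Ω := orbit A U
  have horth' : ∀ i j : Ω, i ≠ j → ∀ x ∈ (i : AddSubgroup W), ∀ y ∈ (j : AddSubgroup W), β.form x y = 0 := by
    rintro ⟨_, a, rfl⟩ ⟨_, c, rfl⟩ hne x hx y hy
    rw [← hinv a⁻¹]
    refine horth (a⁻¹ * c) (fun h => hne (Subtype.ext ?_)) _ ?_ _ ?_
    · show a • U = c • U
      nth_rewrite 1 [← h]
      rw [smul_smul, mul_inv_cancel_left]
    · exact AddSubgroup.mem_smul_pointwise_iff_exists _ _ _ |>.1 hx |> fun ⟨s, hs, e⟩ => by
        rw [← e, inv_smul_smul]; exact hs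
    · obtain ⟨s, hs, rfl⟩ := (AddSubgroup.mem_smul_pointwise_iff_exists _ _ _).1 hy
      rw [mul_smul]
      exact AddSubgroup.smul_mem_pointwise_smul _ _ _ (AddSubgroup.smul_mem_pointwise_smul _ _ _ hs)
  have hnd : ∀ i : Ω, (i : AddSubgroup W) ⊓ β.perp i = ⊥ := by
    rintro ⟨_, a, rfl⟩
    refine eq_bot_iff.2 fun x hx => AddSubgroup.mem_bot.2 ?_
    obtain ⟨s, hs, rfl⟩ := (AddSubgroup.mem_smul_pointwise_iff_exists _ _ _).1 hx.1
    have : s ∈ U ⊓ β.perp U := ⟨hs, fun t ht => by
      rw [← hinv a]; exact hx.2 _ (AddSubgroup.smul_mem_pointwise_smul _ _ _ ht)⟩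
    rw [hUn, AddSubgroup.mem_bot] at this
    rw [this, smul_zero]
  haveI := Fintype.ofFinite Ω
  have hcardi : ∀ i : Ω, Nat.card (i : AddSubgroup W) = Nat.card U := by
    rintro ⟨_, a, rfl⟩
    exact (Nat.card_congr (AddSubgroup.equivMapOfInjective U (DistribMulAction.toAddMonoidEnd A W a)
      (MulAction.injective a)).toEquiv).symm
  have hprod : Nat.card U ^ Nat.card Ω ≤ 64 := by
    rw [← hcard, Nat.card_eq_fintype_card (α := Ω), ← Finset.card_univ, ← Finset.prod_const]
    rw [← Finset.prod_congr rfl fun i _ => hcardi i, ← Nat.card_pi]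
    refine Nat.card_le_card_of_injective (fun z : ∀ i : Ω, (i : AddSubgroup W) => ∑ i, (z i : W))
      fun z z' hzz => funext fun j => ?_
    have hd : (((z j - z' j : (j : AddSubgroup W)) : W)) ∈ (j : AddSubgroup W) ⊓ β.perp j := by
      refine ⟨SetLike.coe_mem _, fun t ht => ?_⟩
      have h0 := congrArg (β.form t) hzz
      simp only [map_sum] at h0
      rw [Finset.sum_eq_single j (fun i _ hi => horth' j i (Ne.symm hi) t ht _ (z i).2) (by simp),
        Finset.sum_eq_single j (fun i _ hi => horth' j i (Ne.symm hi) t ht _ (z' i).2) (by simp)] at h0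
      rw [AddSubgroup.coe_sub, map_sub, h0, sub_self]
    rw [hnd, AddSubgroup.mem_bot] at hd
    exact sub_eq_zero.1 (Subtype.ext hd)
  have hm : 2 ≤ Nat.card Ω := by
    by_contra hlt
    have hsub : Subsingleton Ω := Finite.card_le_one_iff_subsingleton.1 (by omega)
    have hinvU : ∀ a : A, ∀ x ∈ U, a • x ∈ U := fun a x hx => by
      have h : a • U = U := congrArg Subtype.val (hsub.elim (⟨a • U, a, rfl⟩ : Ω) ⟨U, mem_orbit_self U⟩)
      have hx' := AddSubgroup.smul_mem_pointwise_smul x a U hx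
      rwa [h] at hx'
    have htop : U = ⊤ := (hirr U hinvU).resolve_left hUne
    refine hKne ((Subgroup.eq_bot_iff_forall _).2 fun c hc => eq_of_smul_eq_smul fun x : W => ?_)
    rw [one_smul]
    exact (htop ▸ AddSubgroup.mem_top x : x ∈ U) c hc
  obtain ⟨n, hn⟩ := β.card_eq_sq (p := 2) thin_zmod_two _ U rfl hUn hW
  have hn1 : n = 1 := by
    rcases n with _ | _ | n
    · exact absurd (AddSubgroup.eq_bot_of_card_eq U (by simpa using hn)) hUne
    · rfl
    · exfalso
      have h1 := Nat.pow_le_pow_right (Nat.card_pos (α := U)) hm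
      have h2 : 4 ≤ 2 ^ (n + 1 + 1) := by
        calc (4 : ℕ) = 2 ^ 2 := by norm_num
          _ ≤ _ := Nat.pow_le_pow_right two_pos (by omega)
      have h3 : 16 ≤ Nat.card U := by rw [hn]; nlinarith
      nlinarith
  have hU4 : Nat.card U = 4 := by rw [hn, hn1]; norm_num
  have hm3 : Nat.card Ω ≤ 3 := by
    by_contra hlt
    have h1 := Nat.pow_le_pow_right (show 0 < 4 by norm_num) (show 4 ≤ Nat.card Ω by omega)
    rw [hU4] at hprod
    omega
  -- the count
  set σ := MulAction.toPermHom A Ω with hσ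
  have hfix : ∀ (a : σ.ker) (i : Ω), ∀ x ∈ (i : AddSubgroup W), (a : A) • x ∈ (i : AddSubgroup W) := by
    intro a i x hx
    have h := congrArg Subtype.val (Equiv.congr_fun (MonoidHom.mem_ker.1 a.2) i)
    have hx' := AddSubgroup.smul_mem_pointwise_smul x (a : A) _ hx
    change (a : A) • (i : AddSubgroup W) = (i : AddSubgroup W) at h
    rwa [h] at hx'
  refine (SubClassLE.of_hom σ (m := 27) (n := 3) ?_ ?_).mono (by norm_num)
  · letI hact : ∀ i : Ω, DistribMulAction σ.ker (i : AddSubgroup W) := fun i =>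
      subAct (A := σ.ker) (i : AddSubgroup W) fun a => hfix a i
    let f : ∀ i : Ω, σ.ker →* Equiv.Perm (i : AddSubgroup W) := fun i => toPermHom σ.ker _
    refine (subClassLE_of_pi (fun i => (f i).range) (Pi.monoidHom fun i => (f i).rangeRestrict)
      (fun a c hac => ?_) (fun _ => 3) fun i => ?_).mono (by
        rw [Finset.prod_const, Finset.card_univ, ← Nat.card_eq_fintype_card]
        exact (Nat.pow_le_pow_right (by norm_num) hm3).trans (by norm_num))
    · -- faithful, as the conjugates span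
      have hgen : ∀ i : Ω, ∀ x ∈ (i : AddSubgroup W), (a : A) • x = (c : A) • x := fun i x hx =>
        congrArg Subtype.val (Equiv.congr_fun (congrArg Subtype.val (congrFun hac i) : f i a = f i c) ⟨x, hx⟩)
      let E : AddSubgroup W := (DistribMulAction.toAddMonoidHom W (a : A)).eqLocus
        (DistribMulAction.toAddMonoidHom W (c : A))
      let T : AddSubgroup W := ⨆ i : Ω, (i : AddSubgroup W)
      have hT : T = ⊤ := by
        refine (hirr T fun d x hx => ?_).resolve_left fun h => hUne ?_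
        · exact (iSup_le fun i z hz => (le_iSup (fun i : Ω => (i : AddSubgroup W))
            (d • i)) (AddSubgroup.smul_mem_pointwise_smul z d _ hz) :
              T ≤ T.comap (DistribMulAction.toAddMonoidHom W d)) hx
        · exact le_bot_iff.1 (h ▸ le_iSup (fun i : Ω => (i : AddSubgroup W)) ⟨U, mem_orbit_self U⟩)
      have hE : T ≤ E := iSup_le fun i x hx => hgen i x hx
      exact Subtype.ext (eq_of_smul_eq_smul fun x : W => hE (hT ▸ AddSubgroup.mem_top x))
    · haveI : Finite (f i).range := inferInstance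
      letI := rangeAct σ.ker (i : AddSubgroup W)
      have h := subClassLE_plane (A := (f i).range) (β.restrict thin_zmod_two (hnd i)) (p := 2)
        (fun x => Subtype.ext (hW x)) (by rw [hcardi, hU4]) (by
          rintro ⟨_, a, rfl⟩ x y
          exact hinv (a : A) (x : W) (y : W))
      exact h.mono (by norm_num)
  · refine (PB.transfer σ (pb_all _)).mono ?_
    generalize Nat.card Ω = m at hm3
    interval_cases m <;> decide

/-- The solvable irreducible isometry groups. -/
theorem subClassLE_eight {C : Type} [AddCommGroup C] [Finite C] [Group.IsSolvable A] (B : Form W C)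
    (hC : Thin C) (hW : ∀ x : W, (2 : ℕ) • x = 0) (hcard : Nat.card W = 64) (hirr : Irreducible' A W)
    (hinv : ∀ (a : A) x y, B.form (a • x) (a • y) = B.form x y) : SubClassLE A 2187 := by
  classical
  haveI : Fact (Nat.Prime 2) := ⟨Nat.prime_two⟩
  set β := B.toTwo hC hW
  have hβ := B.toTwo_inv hC hW hinv
  rcases subsingleton_or_nontrivial A with h | h
  · exact SubClassLE.of_card ((Finite.card_le_one_iff_subsingleton.2 h).trans (by norm_num))
  obtain ⟨M, hMn, hM, hmin⟩ : ∃ M : Subgroup A, M.Normal ∧ M ≠ ⊥ ∧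
      ∀ K : Subgroup A, K.Normal → K ≤ M → K = ⊥ ∨ K = M := by
    obtain ⟨M, hM⟩ := (Set.toFinite {M : Subgroup A | M.Normal ∧ M ≠ ⊥}).exists_minimal
      ⟨⊤, inferInstance, top_ne_bot⟩
    refine ⟨M, hM.prop.1, hM.prop.2, fun K hK hle => ?_⟩
    rcases eq_or_ne K ⊥ with h | h
    · exact Or.inl h
    · exact Or.inr (le_antisymm hle (hM.le_of_le ⟨hK, h⟩ hle))
  haveI := hMn
  obtain ⟨hMc, ℓ, hℓ, hpow, hpg⟩ := minimal_solvable_elementary (M := M) ⟨hMn, hM, hmin⟩ inferInstance
  haveI := Fact.mk hℓ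
  have hnotfix : fixAdd W M = ⊥ := (hirr _ fixAdd_invariant).resolve_right fun h => hM
    ((Subgroup.eq_bot_iff_forall _).2 fun c hc => eq_of_smul_eq_smul fun x : W => by
      rw [one_smul]; exact (h ▸ AddSubgroup.mem_top x : x ∈ fixAdd W M) c hc)
  have hℓ2 : ℓ ≠ 2 := by
    rintro rfl
    obtain ⟨v, hv, hv0⟩ := hpg.exists_fixed_point_of_prime_dvd_card_of_fixed_point W
      (by rw [hcard]; norm_num) (a := (0 : W)) (fun g => smul_zero g)
    exact hv0 (AddSubgroup.mem_bot.1 (hnotfix ▸ (fun c hc => hv ⟨c, hc⟩ : v ∈ fixAdd W M))).symm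
  by_cases hfx : ∃ b ∈ M, b ≠ 1 ∧ ∃ w : W, w ≠ 0 ∧ b • w = w
  · obtain ⟨b, hbM, hb1, w, hw, hbw⟩ := hfx
    exact subClassLE_eight_fixed β hβ hW hcard hirr hMc hpg hℓ2 hbM hb1 hw hbw
  push Not at hfx
  haveI : Nontrivial W := Finite.one_lt_card_iff_nontrivial.1 (by omega)
  have hfp : FixedPointFree W M := fun b hb w hw h => by
    by_contra hne
    exact hfx b hb hne w hw h
  haveI := isCyclic_of_fpf hMc hfp
  obtain ⟨b, hb⟩ := IsCyclic.exists_ofOrder_eq_natCard (α := M)
  have hbℓ : (b : A) ^ ℓ = 1 := hpow b b.2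
  have hb1 : (b : A) ≠ 1 := fun h => hM (by
    rw [← Subgroup.card_eq_one, ← hb, orderOf_eq_one_iff]
    exact Subtype.ext h)
  have hfree : ∀ w : W, (b : A) • w = w → w = 0 := fun w h => by
    by_contra h0
    exact hfx b b.2 hb1 w h0 h
  have hMle : Nat.card M ≤ ℓ := by
    rw [← hb, ← Subgroup.orderOf_coe]
    exact Nat.le_of_dvd hℓ.pos (orderOf_dvd_of_pow_eq_one hbℓ)
  have hℓ37 : ℓ = 3 ∨ ℓ = 7 := by
    have h1 := card_modEq_one (b : A) hbℓ hfree ⊤ fun x _ => trivial
    rw [AddSubgroup.card_top, hcard] at h1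
    have h2 : ℓ ∣ 63 := (Nat.modEq_iff_dvd' (by norm_num)).1 h1.symm
    have h3 : ℓ ≤ 63 := Nat.le_of_dvd (by norm_num) h2
    interval_cases ℓ <;> revert hℓ h2 <;> norm_num
  have hidx : Nat.card A ≤ (ℓ - 1) * Nat.card (Subgroup.centralizer ({(b : A)} : Set A)) := by
    haveI := Fintype.ofFinite M
    have hX : Nat.card {c : M // c ≠ 1} ≤ ℓ - 1 := by
      rw [Nat.card_eq_fintype_card, Fintype.card_subtype_compl, Fintype.card_subtype_eq,
        ← Nat.card_eq_fintype_card]
      omega
    rw [← Subgroup.card_top]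
    refine (card_le_fibre ⊤ _ (fun a => (⟨⟨(a : A)⁻¹⁻¹ * b * (a : A)⁻¹, ?_⟩, fun h => hb1 ?_⟩ :
      {c : M // c ≠ 1})) fun a c hac => ?_).trans (Nat.mul_le_mul_right _ hX)
    · rw [inv_inv]
      exact hMn.conj_mem b b.2 a
    · have h' := congrArg Subtype.val h
      simp only [inv_inv, OneMemClass.coe_one] at h'
      rw [mul_inv_eq_one, mul_eq_left] at h'
      exact h'
    · have e : (a : A)⁻¹⁻¹ * b * (a : A)⁻¹ = (c : A)⁻¹⁻¹ * b * (c : A)⁻¹ :=
        congrArg (fun t : {c : M // c ≠ 1} => ((t : M) : A)) hac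
      rw [Subgroup.mem_centralizer_singleton_iff]
      simp only [inv_inv] at e
      calc (a : A)⁻¹ * c * b = (a : A)⁻¹ * ((c : A) * b * (c : A)⁻¹) * c := by group
        _ = (a : A)⁻¹ * ((a : A) * b * (a : A)⁻¹) * c := by rw [e]
        _ = b * ((a : A)⁻¹ * c) := by group
  have := card_centralizer_fpf β hβ hW hcard (b : A) hbℓ hℓ37 hfree
  refine SubClassLE.of_card ?_
  rw [mul_comm] at hidx
  omega

end Cfsg.Lib.Solv.ClassCount
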