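import Mathlib
import Cfsg.Agent.Lib.OddBase.Main

/-!
# Alternating forms on finite abelian groups with values in a group with few elements of each order
-/

set_option autoImplicit false
set_option linter.style.haveILetI false
set_option linter.unusedSectionVars false

namespace Cfsg.Lib.Solv.ClassCount

/-- For every `n` there are at most `n` elements killed by `n`. -/
def Thin (C : Type*) [AddCommGroup C] : Prop :=
  ∀ n : ℕ, 0 < n → Nat.card {c : C // n • c = 0} ≤ n

theorem finite_hom (X C : Type*) [AddCommGroup X] [AddCommGroup C] [Finite X] [Finite C] : Finite (X →+ C) :=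
  Finite.of_injective _ DFunLike.coe_injective

/-- The homomorphisms into a thin group. -/
theorem card_hom_le {C : Type*} [AddCommGroup C] [Finite C] (hC : Thin C) :
    ∀ (N : ℕ) (X : Type) [AddCommGroup X] [Finite X], Nat.card X = N → Nat.card (X →+ C) ≤ Nat.card X := by
  intro N
  induction N using Nat.strong_induction_on with
  | _ N ih =>
    intro X _ _ hN
    haveI := finite_hom X C
    rcases subsingleton_or_nontrivial X with hX | hX
    · haveI : Subsingleton (X →+ C) := ⟨fun f g => AddMonoidHom.ext fun x => by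
        rw [Subsingleton.elim x 0, map_zero, map_zero]⟩
      exact (Finite.card_le_one_iff_subsingleton.2 ‹_›).trans Nat.card_pos
    obtain ⟨x, hx⟩ := exists_ne (0 : X)
    set Z := AddSubgroup.zmultiples x
    let r : (X →+ C) →+ C := AddMonoidHom.eval x
    have h1 : Nat.card r.ker * Nat.card r.range = Nat.card (X →+ C) := by
      rw [← AddSubgroup.index_ker, AddSubgroup.card_mul_index]
    have hr : Nat.card r.range ≤ addOrderOf x := by
      refine le_trans (Nat.card_le_card_of_injective (fun c : r.range =>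
        (⟨(c : C), ?_⟩ : {c : C // addOrderOf x • c = 0})) fun a b h => Subtype.ext
          (congrArg (fun z : {c : C // addOrderOf x • c = 0} => (z : C)) h)) (hC _ (addOrderOf_pos x))
      obtain ⟨f, hf⟩ := c.2
      rw [← hf]
      show addOrderOf x • f x = 0
      rw [← map_nsmul, addOrderOf_nsmul_eq_zero, map_zero]
    have hk : Nat.card r.ker ≤ Nat.card (X ⧸ Z) := by
      have hlt : Nat.card (X ⧸ Z) < N := by
        rw [← hN, AddSubgroup.card_eq_card_quotient_mul_card_addSubgroup Z]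
        refine (Nat.lt_mul_iff_one_lt_right Nat.card_pos).2 (Finite.one_lt_card_iff_nontrivial.2 ?_)
        exact (AddSubgroup.nontrivial_iff_ne_bot Z).2 fun h => hx (AddSubgroup.mem_bot.1
          (h ▸ AddSubgroup.mem_zmultiples x))
      haveI := finite_hom (X ⧸ Z) C
      refine le_trans (Nat.card_le_card_of_injective (fun f : r.ker =>
        QuotientAddGroup.lift Z (f : X →+ C) (AddSubgroup.zmultiples_le.2 f.2)) fun f g h => ?_)
        (ih _ hlt (X ⧸ Z) rfl)
      exact Subtype.ext (AddMonoidHom.ext fun y => DFunLike.congr_fun h (y : X ⧸ Z))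
    rw [← h1, AddSubgroup.card_eq_card_quotient_mul_card_addSubgroup Z, Nat.card_zmultiples]
    exact Nat.mul_le_mul hk hr

/-- A nondegenerate alternating form. -/
structure Form (W C : Type) [AddCommGroup W] [AddCommGroup C] where
  /-- The form. -/
  form : W →+ W →+ C
  alt : ∀ x, form x x = 0
  nondeg : ∀ x, (∀ y, form x y = 0) → x = 0

namespace Form

variable {W C : Type} [AddCommGroup W] [Finite W] [AddCommGroup C] [Finite C] (B : Form W C)

theorem swap (x y : W) : B.form y x = - B.form x y := by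
  have h := B.alt (x + y)
  simp only [map_add, AddMonoidHom.add_apply, B.alt, zero_add, add_zero] at h
  exact eq_neg_of_add_eq_zero_left h

theorem swap_zero {x y : W} (h : B.form x y = 0) : B.form y x = 0 := by rw [B.swap, h, neg_zero]

theorem exists_ne {x : W} (hx : x ≠ 0) : ∃ y, B.form x y ≠ 0 := by
  by_contra h
  push Not at h
  exact hx (B.nondeg x h)

/-- The orthogonal subgroup. -/
def perp (U : AddSubgroup W) : AddSubgroup W where
  carrier := {x | ∀ u ∈ U, B.form u x = 0}
  add_mem' := fun ha hb u hu => by rw [map_add, ha u hu, hb u hu, add_zero]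
  zero_mem' := fun u _ => map_zero _
  neg_mem' := fun ha u hu => by rw [map_neg, ha u hu, neg_zero]

@[simp] theorem mem_perp {U : AddSubgroup W} {x : W} : x ∈ B.perp U ↔ ∀ u ∈ U, B.form u x = 0 := Iff.rfl

/-- The values on a subgroup. -/
def toHom (U : AddSubgroup W) : W →+ (U →+ C) where
  toFun x := (B.form.flip x).comp U.subtype
  map_zero' := by ext u; simp
  map_add' := fun x y => by ext u; simp

theorem ker_toHom (U : AddSubgroup W) : (B.toHom U).ker = B.perp U := by
  ext x
  rw [AddMonoidHom.mem_ker]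
  exact ⟨fun h u hu => DFunLike.congr_fun h (⟨u, hu⟩ : U), fun h => AddMonoidHom.ext fun u => h u u.2⟩

theorem card_perp (hC : Thin C) (U : AddSubgroup W) : Nat.card U * Nat.card (B.perp U) = Nat.card W := by
  haveI := finite_hom U C
  haveI := finite_hom (W ⧸ B.perp U) C
  rw [AddSubgroup.card_eq_card_quotient_mul_card_addSubgroup (B.perp U)]
  congr 1
  refine le_antisymm ?_ ?_
  · refine le_trans (Nat.card_le_card_of_injective (fun u : U => QuotientAddGroup.lift (B.perp U)
      (B.form (u : W)) fun x hx => hx (u : W) u.2) fun u v h => Subtype.ext ?_) (card_hom_le hC _ _ rfl)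
    refine sub_eq_zero.1 (B.nondeg _ fun y => ?_)
    rw [map_sub, AddMonoidHom.sub_apply, sub_eq_zero]
    exact DFunLike.congr_fun h (y : W ⧸ B.perp U)
  · refine le_trans ?_ (card_hom_le hC _ U rfl)
    rw [← Nat.card_congr (QuotientAddGroup.quotientAddEquivOfEq (B.ker_toHom U)).toEquiv]
    exact Nat.card_le_card_of_injective _ (QuotientAddGroup.kerLift_injective (B.toHom U))

theorem sup_perp (hC : Thin C) {U : AddSubgroup W} (hU : U ⊓ B.perp U = ⊥) : U ⊔ B.perp U = ⊤ := by
  refine AddSubgroup.eq_top_of_card_eq _ (le_antisymm (AddSubgroup.card_le_card_addGroup _) ?_)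
  rw [← B.card_perp hC U, ← Nat.card_prod]
  refine Nat.card_le_card_of_injective (fun z : U × B.perp U =>
    (⟨(z.1 : W) + z.2, AddSubgroup.add_mem_sup z.1.2 z.2.2⟩ : ↥(U ⊔ B.perp U))) fun a b h => ?_
  have h' : (a.1 : W) + a.2 = b.1 + b.2 := congrArg Subtype.val h
  have h1 : (a.1 : W) - b.1 = b.2 - a.2 := sub_eq_sub_iff_add_eq_add.2 (by rw [h', add_comm])
  have h2 : (a.1 : W) - b.1 ∈ U ⊓ B.perp U :=
    AddSubgroup.mem_inf.2 ⟨sub_mem a.1.2 b.1.2, h1 ▸ sub_mem b.2.2 a.2.2⟩
  rw [hU, AddSubgroup.mem_bot] at h2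
  refine Prod.ext (Subtype.ext (sub_eq_zero.1 h2)) (Subtype.ext ?_)
  rw [h2] at h1
  exact (sub_eq_zero.1 h1.symm).symm

theorem perp_inf_perp (hC : Thin C) {U : AddSubgroup W} (hU : U ⊓ B.perp U = ⊥) :
    B.perp U ⊓ B.perp (B.perp U) = ⊥ := by
  refine eq_bot_iff.2 fun x hx => AddSubgroup.mem_bot.2 (B.nondeg x fun y => ?_)
  obtain ⟨u, hu, v, hv, rfl⟩ := AddSubgroup.mem_sup.1 (B.sup_perp hC hU ▸ AddSubgroup.mem_top y)
  rw [map_add, B.swap_zero (hx.1 u hu), B.swap_zero (hx.2 v hv), add_zero]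

/-- The form on a nondegenerate subgroup. -/
def restrict (hC : Thin C) {U : AddSubgroup W} (hU : U ⊓ B.perp U = ⊥) : Form U C where
  form :=
    { toFun := fun x => (B.form (x : W)).comp U.subtype
      map_zero' := by ext y; simp
      map_add' := fun x y => by ext z; simp }
  alt x := B.alt x
  nondeg x h := Subtype.ext (B.nondeg _ fun y => by
    obtain ⟨u, hu, v, hv, rfl⟩ := AddSubgroup.mem_sup.1 (B.sup_perp hC hU ▸ AddSubgroup.mem_top y)
    rw [map_add, hv x x.2, add_zero]
    exact h ⟨u, hu⟩)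

/-- The subgroup spanned by a hyperbolic pair, in prime exponent. -/
theorem exists_plane {p : ℕ} [hp : Fact p.Prime] (hW : ∀ x : W, p • x = 0) {x y : W}
    (hxy : B.form x y ≠ 0) :
    ∃ H : AddSubgroup W, x ∈ H ∧ y ∈ H ∧ Nat.card H = p * p ∧ H ⊓ B.perp H = ⊥ ∧
      ∀ h ∈ H, ∃ i j : ℤ, h = i • x + j • y := by
  let fx : ZMod p →+ W := ZMod.lift p ⟨zmultiplesHom W x, by simp [hW]⟩
  let fy : ZMod p →+ W := ZMod.lift p ⟨zmultiplesHom W y, by simp [hW]⟩
  have ex : ∀ i : ℤ, fx i = i • x := fun i => by simp [fx]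
  have ey : ∀ i : ℤ, fy i = i • y := fun i => by simp [fy]
  set f : ZMod p × ZMod p →+ W := fx.coprod fy with hf
  have hc : p • B.form x y = 0 := by rw [← map_nsmul, hW, map_zero]
  have hco : addOrderOf (B.form x y) = p := addOrderOf_eq_prime hc hxy
  have key : ∀ i j : ℤ, (∀ u ∈ ({x, y} : Set W), B.form u (i • x + j • y) = 0) →
      (i : ZMod p) = 0 ∧ (j : ZMod p) = 0 := by
    intro i j h
    have h1 := h x (by simp)
    have h2 := h y (by simp)
    rw [map_add, map_zsmul, map_zsmul, B.alt, zsmul_zero, zero_add] at h1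
    rw [map_add, map_zsmul, map_zsmul, B.alt, zsmul_zero, add_zero, B.swap, zsmul_neg, neg_eq_zero] at h2
    rw [← addOrderOf_dvd_iff_zsmul_eq_zero, hco] at h1 h2
    exact ⟨(ZMod.intCast_zmod_eq_zero_iff_dvd _ _).2 h2, (ZMod.intCast_zmod_eq_zero_iff_dvd _ _).2 h1⟩
  have hmem : ∀ z : ZMod p × ZMod p, f z = (z.1.val : ℤ) • x + (z.2.val : ℤ) • y := fun z => by
    rw [hf, AddMonoidHom.coprod_apply, ← ex, ← ey]
    simp
  have hinj : Function.Injective f := by
    rw [injective_iff_map_eq_zero]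
    intro z hz
    rw [hmem] at hz
    have h := key _ _ fun u _ => by rw [hz, map_zero]
    simp only [Int.cast_natCast, ZMod.natCast_zmod_val] at h
    exact Prod.ext h.1 h.2
  refine ⟨f.range, ⟨(1, 0), ?_⟩, ⟨(0, 1), ?_⟩, ?_, ?_, ?_⟩
  · rw [hf, AddMonoidHom.coprod_apply, map_zero, add_zero, ← Int.cast_one, ex, one_zsmul]
  · rw [hf, AddMonoidHom.coprod_apply, map_zero, zero_add, ← Int.cast_one, ey, one_zsmul]
  · rw [← Nat.card_congr (AddMonoidHom.ofInjective hinj).toEquiv, Nat.card_prod, Nat.card_zmod]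
  · refine eq_bot_iff.2 fun h hh => ?_
    obtain ⟨⟨z, rfl⟩, hperp⟩ := hh
    rw [AddSubgroup.mem_bot, hmem]
    have hz := key (z.1.val : ℤ) (z.2.val : ℤ) fun u hu => by
      rw [← hmem]
      rcases hu with rfl | rfl
      · exact hperp _ ⟨(1, 0), by rw [hf, AddMonoidHom.coprod_apply, map_zero, add_zero, ← Int.cast_one, ex,
          one_zsmul]⟩
      · exact hperp _ ⟨(0, 1), by rw [hf, AddMonoidHom.coprod_apply, map_zero, zero_add, ← Int.cast_one, ey,
          one_zsmul]⟩
    simp only [Int.cast_natCast, ZMod.natCast_zmod_val] at hz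
    rw [hz.1, hz.2]
    simp
  · rintro _ ⟨z, rfl⟩
    exact ⟨_, _, hmem z⟩

/-- The order is a square, in prime exponent. -/
theorem card_eq_sq {p : ℕ} [Fact p.Prime] (hC : Thin C) :
    ∀ (N : ℕ) (U : AddSubgroup W), Nat.card U = N → U ⊓ B.perp U = ⊥ → (∀ x : W, p • x = 0) →
      ∃ n : ℕ, N = p ^ n * p ^ n := by
  intro N
  induction N using Nat.strong_induction_on with
  | _ N ih =>
    intro U hN hU hW
    rcases eq_or_ne U ⊥ with rfl | hne
    · exact ⟨0, by rw [← hN]; simp⟩
    obtain ⟨x, hxU, hx⟩ : ∃ x ∈ U, x ≠ 0 := by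
      by_contra h
      push Not at h
      exact hne (eq_bot_iff.2 fun x hx => AddSubgroup.mem_bot.2 (h x hx))
    obtain ⟨⟨y, hyU⟩, hy⟩ := (B.restrict hC hU).exists_ne (x := ⟨x, hxU⟩) fun h => hx (congrArg Subtype.val h)
    obtain ⟨H, -, -, hH, hHn, hspan⟩ := B.exists_plane hW (x := x) (y := y) hy
    have hHU : H ≤ U := fun h hh => by
      obtain ⟨i, j, rfl⟩ := hspan h hh
      exact add_mem (zsmul_mem hxU i) (zsmul_mem hyU j)
    set V := U ⊓ B.perp H
    have hV : V ⊓ B.perp V = ⊥ := eq_bot_iff.2 fun v hv => by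
      rw [← hU]
      refine ⟨hv.1.1, fun u hu => ?_⟩
      obtain ⟨h, hh, w, hw, rfl⟩ := AddSubgroup.mem_sup.1 (B.sup_perp hC hHn ▸ AddSubgroup.mem_top u)
      rw [map_add, AddMonoidHom.add_apply, hv.1.2 h hh, hv.2 w ⟨by simpa using sub_mem hu (hHU hh), hw⟩,
        add_zero]
    have hcard : Nat.card U = Nat.card H * Nat.card V := by
      rw [← Nat.card_prod]
      symm
      refine Nat.card_eq_of_bijective (fun z : H × V => (⟨(z.1 : W) + z.2, add_mem (hHU z.1.2) z.2.2.1⟩ : U))
        ⟨fun a b h => ?_, fun u => ?_⟩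
      · have h' : (a.1 : W) + a.2 = b.1 + b.2 := congrArg Subtype.val h
        have h1 : (a.1 : W) - b.1 = b.2 - a.2 := sub_eq_sub_iff_add_eq_add.2 (by rw [h', add_comm])
        have h2 : (a.1 : W) - b.1 ∈ H ⊓ B.perp H :=
          AddSubgroup.mem_inf.2 ⟨sub_mem a.1.2 b.1.2, h1 ▸ (sub_mem b.2.2 a.2.2 : _ ∈ V).2⟩
        rw [hHn, AddSubgroup.mem_bot] at h2
        refine Prod.ext (Subtype.ext (sub_eq_zero.1 h2)) (Subtype.ext ?_)
        rw [h2] at h1
        exact (sub_eq_zero.1 h1.symm).symm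
      · obtain ⟨h, hh, w, hw, e⟩ := AddSubgroup.mem_sup.1 (B.sup_perp hC hHn ▸ AddSubgroup.mem_top (u : W))
        refine ⟨(⟨h, hh⟩, ⟨w, ⟨?_, hw⟩⟩), Subtype.ext e⟩
        have := sub_mem u.2 (hHU hh)
        rwa [← e, add_sub_cancel_left] at this
    have hp := (Fact.out : p.Prime).two_le
    have hlt : Nat.card V < N := by
      rw [← hN, hcard, hH]
      exact (Nat.lt_mul_iff_one_lt_left Nat.card_pos).2 (by nlinarith)
    obtain ⟨n, hn⟩ := ih _ hlt V rfl hV hW
    exact ⟨n + 1, by rw [← hN, hcard, hH, hn, pow_succ]; ring⟩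

/-- A level set of a nonzero vector. -/
theorem card_level_mul_le {p : ℕ} [Fact p.Prime] (hW : ∀ x : W, p • x = 0) {x : W} (hx : x ≠ 0) (c : C) :
    Nat.card {y : W // B.form x y = c} * p ≤ Nat.card W := by
  rcases isEmpty_or_nonempty {y : W // B.form x y = c} with h | ⟨⟨y₀, hy₀⟩⟩
  · simp
  obtain ⟨z, hz⟩ := B.exists_ne hx
  have hzo : addOrderOf (B.form x z) = p := addOrderOf_eq_prime (by rw [← map_nsmul, hW, map_zero]) hz
  rw [← Nat.card_fin p, ← Nat.card_prod]
  refine Nat.card_le_card_of_injective (fun w => (w.1 : W) + (w.2 : ℕ) • z) fun a b h => ?_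
  have h' := congrArg (B.form x) h
  simp only [map_add, map_nsmul] at h'
  rw [a.1.2, b.1.2, add_right_inj] at h'
  have h2 : (a.2 : ℕ) = b.2 := by
    have h3 := nsmul_eq_nsmul_iff_modEq.1 h'
    rw [hzo] at h3
    exact Nat.ModEq.eq_of_lt_of_lt h3 a.2.2 b.2.2
  refine Prod.ext (Subtype.ext ?_) (Fin.ext h2)
  simp only [h2, add_left_inj] at h
  exact h

end Form

end Cfsg.Lib.Solv.ClassCount
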