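import Cfsg.Agent.Lib.Solv.ClassCount.Symp
import Cfsg.Agent.S5876
import Cfsg.Agent.Lib.Core.Fitting

/-!
# Class numbers of solvable complex linear groups modulo the Fitting subgroup
-/

set_option autoImplicit false
set_option linter.style.haveILetI false
set_option linter.unusedSectionVars false

namespace Cfsg.Lib.Solv.ClassCount

open scoped commutatorElement
open Module MulAction Cfsg.Lib.Core Cfsg.Lib.OddBase

/-- The statement in degree `r`. -/
def LinBound (r : ℕ) : Prop :=
  ∀ (G : Type) [Group G] [Finite G] [Group.IsSolvable G] [(Cfsg.fittingSubgroup G).Normal] (V : Type)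
    [AddCommGroup V] [Module ℂ V] [FiniteDimensional ℂ V] (ρ : Representation ℂ G V),
    Function.Injective ρ → finrank ℂ V = r → SubClassLE (G ⧸ Cfsg.fittingSubgroup G) (3 ^ (r - 1))

variable {G : Type} [Group G] [Finite G] [(Cfsg.fittingSubgroup G).Normal]
  {V : Type} [AddCommGroup V] [Module ℂ V] [FiniteDimensional ℂ V] (ρ : Representation ℂ G V)

/-- A normal subgroup with a bound on its quotient and on the quotient by it. -/
theorem subClassLE_mod_fitting (K : Subgroup G) [K.Normal] (M : Subgroup K) [M.Normal]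
    (hM : M.map K.subtype ≤ Cfsg.fittingSubgroup G) {m n : ℕ} (h1 : SubClassLE (K ⧸ M) m)
    (h2 : SubClassLE (G ⧸ K) n) : SubClassLE (G ⧸ Cfsg.fittingSubgroup G) (m * n) := by
  set F := Cfsg.fittingSubgroup G
  set Kb := K.map (QuotientGroup.mk' F)
  haveI : Kb.Normal := Subgroup.Normal.map ‹_› _ (QuotientGroup.mk'_surjective _)
  refine SubClassLE.of_hom (QuotientGroup.mk' Kb) ?_ ?_
  · let f : K →* (QuotientGroup.mk' Kb).ker := ((QuotientGroup.mk' F).comp K.subtype).codRestrict _ fun k => by
      rw [QuotientGroup.ker_mk']; exact ⟨k, k.2, rfl⟩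
    have hle : M ≤ f.ker := fun k hk => Subtype.ext ((QuotientGroup.eq_one_iff _).2 (hM ⟨k, hk, rfl⟩))
    refine SubClassLE.of_surjective (QuotientGroup.lift M f hle) (fun y => ?_) h1
    obtain ⟨k, hk, e⟩ := (QuotientGroup.eq_one_iff _).1 y.2
    exact ⟨QuotientGroup.mk ⟨k, hk⟩, Subtype.ext e⟩
  · let f : G →* (QuotientGroup.mk' Kb).range :=
      (QuotientGroup.mk' Kb).rangeRestrict.comp (QuotientGroup.mk' F)
    have hle : K ≤ f.ker := fun k hk => Subtype.ext ((QuotientGroup.eq_one_iff _).2 ⟨k, hk, rfl⟩)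
    refine SubClassLE.of_surjective (QuotientGroup.lift K f hle) (fun y => ?_) h2
    obtain ⟨⟨g⟩, e⟩ := y.2
    exact ⟨QuotientGroup.mk g, Subtype.ext e⟩

theorem prod_pow_le {ι : Type} [Fintype ι] (d : ι → ℕ) (hd : ∀ i, 1 ≤ d i) :
    (∏ i, 3 ^ (d i - 1)) * 3 ^ (Fintype.card ι - 1) ≤ 3 ^ ((∑ i, d i) - 1) := by
  rw [Finset.prod_pow_eq_pow_sum, ← pow_add]
  refine Nat.pow_le_pow_right (by norm_num) ?_
  have h : ∑ i, d i = (∑ i, (d i - 1)) + Fintype.card ι := by
    rw [← Finset.card_univ, Finset.card_eq_sum_ones, ← Finset.sum_add_distrib]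
    exact Finset.sum_congr rfl fun i _ => by have := hd i; omega
  rcases Nat.eq_zero_or_pos (Fintype.card ι) with h0 | h0
  · haveI := Fintype.card_eq_zero_iff.1 h0
    simp [Fintype.card_eq_zero]
  rw [h]
  generalize ∑ i, (d i - 1) = x
  generalize Fintype.card ι = c at h0
  omega

/-- An abelian normal subgroup which is not scalar splits the space. -/
theorem subClassLE_of_split [Group.IsSolvable G] (hρ : Function.Injective ρ) {r : ℕ} (hr : finrank ℂ V = r)
    (ih : ∀ d < r, LinBound d) (B : Subgroup G) [hB : B.Normal] (hBc : IsMulCommutative B) {b₀ : G}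
    (hb₀ : b₀ ∈ B) (hns : ∀ c : ℂ, ρ b₀ ≠ c • (1 : End ℂ V)) :
    SubClassLE (G ⧸ Cfsg.fittingSubgroup G) (3 ^ (r - 1)) := by
  classical
  set f : B → End ℂ V := fun b => ρ b with hf
  have hcomm : ∀ a c : B, Commute (f a) (f c) := fun a c =>
    (show Commute (a : G) c from congrArg Subtype.val (mul_comm' a c)).map ρ
  have hss : ∀ a : B, (f a).IsSemisimple := fun a => by
    refine Module.End.isSemisimple_of_squarefree_aeval_eq_zero
      (p := Polynomial.X ^ orderOf (a : G) - Polynomial.C (1 : ℂ))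
      (Polynomial.separable_X_pow_sub_C 1 (by exact_mod_cast (orderOf_pos (a : G)).ne') one_ne_zero).squarefree ?_
    simp only [hf, map_sub, map_pow, Polynomial.aeval_X, Polynomial.aeval_C, map_one]
    rw [← map_pow, pow_orderOf_eq_one, map_one, sub_self]
  let P : (B → ℂ) → Submodule ℂ V := fun χ => ⨅ a, (f a).maxGenEigenspace (χ a)
  have hind : iSupIndep P := Module.End.independent_iInf_maxGenEigenspace_of_forall_mapsTo f
    fun i j φ => Module.End.mapsTo_maxGenEigenspace_of_comm (hcomm j i) φ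
  have htop : ⨆ χ, P χ = ⊤ :=
    Module.End.iSup_iInf_maxGenEigenspace_eq_top_of_iSup_maxGenEigenspace_eq_top_of_commute f
      (fun i j _ => hcomm i j) fun i => Module.End.iSup_maxGenEigenspace_eq_top (f i)
  have hmemP : ∀ χ v, v ∈ P χ ↔ ∀ a : B, ρ a v = χ a • v := fun χ v => by
    simp only [P, Submodule.mem_iInf]
    refine forall_congr' fun a => ?_
    rw [(Module.End.isFinitelySemisimple_iff_isSemisimple.mpr
      (hss a)).maxGenEigenspace_eq_eigenspace, Module.End.mem_eigenspace_iff]
  letI hS : Fintype {χ // P χ ≠ ⊥} := hind.fintypeNeBotOfFiniteDimensional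
  let S := {χ // P χ ≠ ⊥}
  have htopS : ⨆ s : S, P s.1 = ⊤ := by rw [← htop]; exact iSup_ne_bot_subtype P
  have hindS : iSupIndep fun s : S => P s.1 := hind.comp Subtype.val_injective
  have hsum : ∑ s : S, finrank ℂ (P s.1) = r := by
    rw [← hr, ← (LinearEquiv.ofBijective (DirectSum.coeLinearMap fun s : S => P s.1)
      (DirectSum.isInternal_submodule_of_iSupIndep_of_iSup_eq_top hindS htopS)).finrank_eq,
      Module.finrank_directSum]
  have hd1 : ∀ s : S, 1 ≤ finrank ℂ (P s.1) := fun s => Submodule.one_le_finrank_iff.2 s.2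
  -- at least two pieces
  have hm : 2 ≤ Fintype.card S := by
    by_contra hlt
    rcases isEmpty_or_nonempty S with hS0 | ⟨⟨s⟩⟩
    · refine hns 1 (LinearMap.ext fun v => ?_)
      have hv : v ∈ ⨆ s : S, P s.1 := htopS ▸ Submodule.mem_top
      rw [iSup_of_empty, Submodule.mem_bot] at hv
      simp [hv]
    · refine hns (s.1 ⟨b₀, hb₀⟩) (LinearMap.ext fun v => ?_)
      haveI : Subsingleton S := Fintype.card_le_one_iff_subsingleton.1 (by omega)
      have hs : P s.1 = ⊤ := by
        rw [eq_top_iff, ← htopS]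
        exact iSup_le fun t => Subsingleton.elim t s ▸ le_rfl
      exact (hmemP _ v).1 (hs ▸ Submodule.mem_top) ⟨b₀, hb₀⟩
  have hdlt : ∀ s : S, finrank ℂ (P s.1) < r := fun s => by
    obtain ⟨t, ht⟩ := Fintype.exists_ne_of_one_lt_card (show 1 < Fintype.card S by omega) s
    rw [← hsum]
    exact Finset.single_lt_sum (f := fun u : S => finrank ℂ (P u.1)) ht (Finset.mem_univ s) (Finset.mem_univ t) (hd1 t)
      fun _ _ _ => Nat.zero_le _
  -- the permutation of the pieces
  let cj : G → B → B := fun g b => ⟨g⁻¹ * b * g, by simpa using hB.conj_mem b b.2 g⁻¹⟩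
  have hmove : ∀ (g : G) (χ : B → ℂ) (v : V), v ∈ P χ → ρ g v ∈ P fun b => χ (cj g b) := fun g χ v hv => by
    rw [hmemP] at hv ⊢
    intro a
    rw [← map_smul (ρ g), ← hv (cj g a), ← Module.End.mul_apply, ← Module.End.mul_apply, ← map_mul, ← map_mul]
    congr 2
    show (a : G) * g = g * (g⁻¹ * a * g)
    group
  have hne : ∀ (g : G) (s : S), P (fun b => s.1 (cj g b)) ≠ ⊥ := fun g s h => by
    obtain ⟨v, hv, hv0⟩ := (Submodule.ne_bot_iff _).1 s.2
    have h1 := hmove g _ v hv
    rw [h, Submodule.mem_bot] at h1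
    exact hv0 ((ρ.apply_bijective g).1 (h1.trans (map_zero _).symm))
  letI : MulAction G S :=
    { smul := fun g s => ⟨fun b => s.1 (cj g b), hne g s⟩
      one_smul := fun s => Subtype.ext (funext fun b => congrArg s.1 (Subtype.ext (by simp [cj])))
      mul_smul := fun g h s => Subtype.ext (funext fun b => congrArg s.1 (Subtype.ext (by
        show (g * h)⁻¹ * (b : G) * (g * h) = h⁻¹ * (g⁻¹ * b * g) * h
        group))) }
  set σ := toPermHom G S with hσ
  set K := σ.ker with hK
  have hstab : ∀ (s : S) (k : K), P s.1 ≤ (P s.1).comap (ρ (k : G)) := fun s k v hv => by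
    have h := hmove k _ v hv
    have e : (fun b => s.1 (cj k b)) = s.1 := congrArg Subtype.val (Equiv.congr_fun (MonoidHom.mem_ker.1 k.2) s)
    rwa [e] at h
  let ρs : ∀ s : S, Representation ℂ K (P s.1) := fun s =>
    Representation.subrepresentation (ρ.comp K.subtype) (P s.1) (hstab s)
  let R : S → Type := fun s => K ⧸ MonoidHom.ker (ρs s)
  haveI : ∀ s : S, (Cfsg.fittingSubgroup (R s)).Normal := fun s => fittingSubgroup_normal' _
  haveI : ∀ s : S, Group.IsSolvable (R s) := fun s =>
    Group.isSolvable_of_surjective (QuotientGroup.mk'_surjective (MonoidHom.ker (ρs s)))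
  have hb : ∀ s : S, SubClassLE (R s ⧸ Cfsg.fittingSubgroup (R s)) (3 ^ (finrank ℂ (P s.1) - 1)) := by
    intro s
    refine ih _ (hdlt s) (R s) (P s.1) (QuotientGroup.lift _ (ρs s) le_rfl) ?_ rfl
    intro a c hac
    obtain ⟨a, rfl⟩ := QuotientGroup.mk_surjective a
    obtain ⟨c, rfl⟩ := QuotientGroup.mk_surjective c
    rw [QuotientGroup.eq, MonoidHom.mem_ker, map_mul]
    have h : ρs s a = ρs s c := hac
    rw [← h, ← map_mul, inv_mul_cancel, map_one]
  let φ : ∀ s : S, K →* R s ⧸ Cfsg.fittingSubgroup (R s) := fun s =>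
    (QuotientGroup.mk' _).comp (QuotientGroup.mk' (MonoidHom.ker (ρs s)))
  set M := (MonoidHom.pi φ).ker with hM
  have hMle : M.map K.subtype ≤ Cfsg.fittingSubgroup G := by
    haveI : Group.IsNilpotent M := by
      haveI : ∀ s : S, Group.IsNilpotent (Cfsg.fittingSubgroup (R s)) := fun s => fittingSubgroup_isNilpotent _
      haveI : Group.IsNilpotent (∀ s : S, Cfsg.fittingSubgroup (R s)) := Group.isNilpotent_pi
      let ψ : M →* ∀ s : S, Cfsg.fittingSubgroup (R s) := MonoidHom.pi fun s =>
        ((QuotientGroup.mk' (MonoidHom.ker (ρs s))).comp M.subtype).codRestrict _ fun x =>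
          (QuotientGroup.eq_one_iff _).1 (congrFun (MonoidHom.mem_ker.1 x.2) s)
      refine Group.nilpotent_of_mulEquiv (MonoidHom.ofInjective (f := ψ) ?_).symm
      rw [← MonoidHom.ker_eq_bot_iff, eq_bot_iff]
      intro x hx
      refine Subgroup.mem_bot.2 (Subtype.ext (Subtype.ext (hρ (LinearMap.ext fun v => ?_))))
      have hle : ⨆ s : S, P s.1 ≤ LinearMap.eqLocus (ρ (((x : K) : G))) (ρ 1) := by
        refine iSup_le fun s w hw => ?_
        have h1 : QuotientGroup.mk' (MonoidHom.ker (ρs s)) (x : K) = 1 :=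
          congrArg Subtype.val (congrFun (MonoidHom.mem_ker.1 hx) s)
        have h2 : ρs s (x : K) = 1 := (QuotientGroup.eq_one_iff _).1 h1
        show ρ ((x : K) : G) w = ρ 1 w
        rw [map_one]
        exact congrArg Subtype.val (LinearMap.congr_fun h2 ⟨w, hw⟩)
      exact hle (htopS ▸ Submodule.mem_top)
    have h1 : M ≤ Cfsg.fittingSubgroup K := le_fittingSubgroup' inferInstance inferInstance
    refine (Subgroup.map_mono h1).trans ?_
    haveI := fittingSubgroup_normal' K
    haveI : (Cfsg.fittingSubgroup K).Characteristic := by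
      refine Subgroup.characteristic_iff_map_le.2 fun e => ?_
      haveI := fittingSubgroup_isNilpotent K
      exact le_fittingSubgroup' (Subgroup.Normal.map inferInstance _ e.surjective)
        (Group.nilpotent_of_mulEquiv ((Cfsg.fittingSubgroup K).equivMapOfInjective _ e.injective))
    haveI := fittingSubgroup_isNilpotent K
    exact le_fittingSubgroup' inferInstance
      (Group.nilpotent_of_mulEquiv ((Cfsg.fittingSubgroup K).equivMapOfInjective _ K.subtype_injective))
  have hKM : SubClassLE (K ⧸ M) (∏ s : S, 3 ^ (finrank ℂ (P s.1) - 1)) :=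
    subClassLE_of_pi _ (QuotientGroup.kerLift (MonoidHom.pi φ)) (QuotientGroup.kerLift_injective _) _ hb
  have hGK : SubClassLE (G ⧸ K) (3 ^ (Fintype.card S - 1)) := by
    refine SubClassLE.of_injective (QuotientGroup.quotientKerEquivRange σ).toMonoidHom
      (QuotientGroup.quotientKerEquivRange σ).injective ?_
    refine (PB.transfer σ (pb_all _)).mono ?_
    rw [← Nat.card_eq_fintype_card]
    exact pb_le _
  refine (subClassLE_mod_fitting K M hMle hKM hGK).mono ?_
  rw [← hsum]
  exact prod_pow_le _ hd1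

/-- All abelian normal subgroups scalar. -/
theorem subClassLE_of_scalar [Group.IsSolvable G] (hρ : Function.Injective ρ) {r : ℕ} (hr : finrank ℂ V = r)
    (hr0 : 0 < r)
    (hscal : ∀ B : Subgroup G, B.Normal → IsMulCommutative B → ∀ b ∈ B, ∃ c : ℂ, ρ b = c • (1 : End ℂ V)) :
    SubClassLE (G ⧸ Cfsg.fittingSubgroup G) (3 ^ (r - 1)) := by
  classical
  haveI : Nontrivial V := Module.nontrivial_of_finrank_pos (R := ℂ) (hr ▸ hr0)
  obtain ⟨N, hNn, hN2, hCN⟩ := Cfsg.Agent.S5876.exists_classTwo G
  set Z := Subgroup.center G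
  have hcentral : ∀ g : G, (∃ c : ℂ, ρ g = c • (1 : End ℂ V)) → g ∈ Z := fun g hg => by
    obtain ⟨c, hc⟩ := hg
    refine Subgroup.mem_center_iff.2 fun h => hρ ?_
    rw [map_mul, map_mul, hc, smul_mul_assoc, mul_smul_comm, one_mul, mul_one]
  have hZscal : ∀ z ∈ Z, ∃ c : ℂ, ρ z = c • (1 : End ℂ V) :=
    hscal Z inferInstance ⟨⟨fun a b => Subtype.ext (Subgroup.mem_center_iff.1 b.2 a)⟩⟩
  have hCZ : Subgroup.centralizer (N : Set G) = Z := by
    refine le_antisymm (fun g hg => hcentral g (hscal _ Subgroup.normal_centralizer ⟨⟨fun a b =>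
      Subtype.ext (Subgroup.mem_centralizer_iff.1 b.2 a (hCN a.2))⟩⟩ g hg)) fun z hz => ?_
    exact Subgroup.mem_centralizer_iff.2 fun h _ => Subgroup.mem_center_iff.1 hz h
  have hZN : Z ≤ N := hCZ ▸ hCN
  have hcm : ∀ x ∈ N, ∀ y ∈ N, ⁅x, y⁆ ∈ Z := fun x hx y hy => by
    rw [← hCZ, commutatorElement_def]; exact hN2 x hx y hy
  -- the quotient and the commutator form
  letI : CommGroup Z :=
    { (inferInstance : Group Z) with mul_comm := fun a b => Subtype.ext (Subgroup.mem_center_iff.1 b.2 a) }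
  set Zn := Z.subgroupOf N
  haveI : Zn.Normal := Subgroup.Normal.subgroupOf inferInstance _
  let Q := N ⧸ Zn
  letI : CommGroup Q :=
    { (inferInstance : Group Q) with
      mul_comm := fun a b => by
        obtain ⟨x, rfl⟩ := QuotientGroup.mk_surjective a
        obtain ⟨y, rfl⟩ := QuotientGroup.mk_surjective b
        show QuotientGroup.mk (x * y) = QuotientGroup.mk (y * x)
        rw [QuotientGroup.eq]
        have h := hcm _ (inv_mem y.2) _ (inv_mem x.2)
        rw [commutatorElement_def, inv_inv, inv_inv] at h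
        show ((x * y)⁻¹ * (y * x) : N).1 ∈ Z
        simpa [mul_assoc] using h }
  have hcen : ∀ z ∈ Z, ∀ g : G, g * z = z * g := fun z hz g => Subgroup.mem_center_iff.1 hz g
  have hleft : ∀ x y w : N, ⁅((x * y : N) : G), (w : G)⁆ = ⁅(x : G), (w : G)⁆ * ⁅(y : G), (w : G)⁆ :=
    fun x y w => by
      have h := hcen _ (hcm _ y.2 _ w.2) x
      calc ⁅((x * y : N) : G), (w : G)⁆ = (x : G) * ⁅(y : G), (w : G)⁆ * (x : G)⁻¹ * ⁅(x : G), (w : G)⁆ := by
            simp only [Subgroup.coe_mul, commutatorElement_def]; group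
        _ = _ := by rw [h, mul_inv_cancel_right, ← hcen _ (hcm _ y.2 _ w.2)]
  have hright : ∀ x y w : N, ⁅(w : G), ((x * y : N) : G)⁆ = ⁅(w : G), (x : G)⁆ * ⁅(w : G), (y : G)⁆ :=
    fun x y w => by
      rw [← commutatorElement_inv, hleft, mul_inv_rev, commutatorElement_inv, commutatorElement_inv,
        hcen _ (hcm _ w.2 _ x.2)]
  let b1 : N →* N →* Z := MonoidHom.mk'
    (fun x => MonoidHom.mk' (fun y => (⟨⁅(x : G), (y : G)⁆, hcm _ x.2 _ y.2⟩ : Z))
      fun y w => Subtype.ext (hright y w x))
    fun x y => MonoidHom.ext fun w => Subtype.ext (hleft x y w)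
  have hb1 : Zn ≤ b1.ker := fun z hz => MonoidHom.ext fun y => Subtype.ext (by
    show ⁅(z : G), (y : G)⁆ = 1
    rw [commutatorElement_eq_one_iff_mul_comm]
    exact (hcen _ hz _).symm)
  let b2 : Q →* N →* Z := QuotientGroup.lift Zn b1 hb1
  have hb2 : ∀ q : Q, Zn ≤ (b2 q).ker := fun q z hz => by
    obtain ⟨x, rfl⟩ := QuotientGroup.mk_surjective q
    refine Subtype.ext ?_
    show ⁅(x : G), (z : G)⁆ = 1
    rw [commutatorElement_eq_one_iff_mul_comm]
    exact hcen _ hz _
  let b3 : Q → Q →* Z := fun q => QuotientGroup.lift Zn (b2 q) (hb2 q)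
  have hb3 : ∀ x y : N, ((b3 (QuotientGroup.mk x) (QuotientGroup.mk y) : Z) : G) = ⁅(x : G), (y : G)⁆ :=
    fun x y => rfl
  let W := Additive Q
  let C := Additive Z
  have hC : Thin C := fun n hn => by
    obtain ⟨Rts, hR, hmem⟩ : ∃ Rts : Finset ℂ, Rts.card ≤ n ∧ ∀ x : ℂ, x ^ n = 1 → x ∈ Rts :=
      ⟨(Polynomial.nthRoots n (1 : ℂ)).toFinset,
        (Multiset.toFinset_card_le _).trans (Polynomial.card_nthRoots n 1),
        fun x hx => by rw [Multiset.mem_toFinset, Polynomial.mem_nthRoots hn]; exact hx⟩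
    choose c hc using hZscal
    have hpw : ∀ z : {z : C // n • z = 0}, c _ (Additive.toMul z.1).2 ∈ Rts := fun z => by
      refine hmem _ (smul_left_injective ℂ (one_ne_zero (α := End ℂ V)) ?_)
      have h : ((Additive.toMul z.1 : Z) : G) ^ n = 1 := congrArg (fun u : C => ((Additive.toMul u : Z) : G)) z.2
      have h2 := congrArg ρ h
      rw [map_pow, map_one, hc _ (Additive.toMul z.1).2, smul_pow, one_pow] at h2
      simpa using h2
    refine le_trans ?_ hR
    rw [← Fintype.card_coe, ← Nat.card_eq_fintype_card]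
    refine Nat.card_le_card_of_injective (fun z => (⟨_, hpw z⟩ : Rts)) fun z z' h => Subtype.ext ?_
    refine Additive.toMul.injective (Subtype.ext (hρ ?_))
    have e := congrArg Subtype.val h
    simp only at e
    rw [hc _ (Additive.toMul z.1).2, hc _ (Additive.toMul z'.1).2, e]
  let B : Form W C :=
    { form := AddMonoidHom.mk' (fun x => MonoidHom.toAdditive (b3 (Additive.toMul x))) (fun x y => by
        refine AddMonoidHom.ext fun w => congrArg Additive.ofMul ?_
        obtain ⟨x', hx'⟩ := QuotientGroup.mk_surjective (Additive.toMul x)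
        obtain ⟨y', hy'⟩ := QuotientGroup.mk_surjective (Additive.toMul y)
        obtain ⟨w', hw'⟩ := QuotientGroup.mk_surjective (Additive.toMul w)
        show b3 (Additive.toMul x * Additive.toMul y) (Additive.toMul w) =
          b3 (Additive.toMul x) (Additive.toMul w) * b3 (Additive.toMul y) (Additive.toMul w)
        rw [← hx', ← hy', ← hw']
        exact Subtype.ext (hleft x' y' w'))
      alt := fun x => by
        refine congrArg Additive.ofMul ?_
        obtain ⟨x', hx'⟩ := QuotientGroup.mk_surjective (Additive.toMul x)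
        show b3 (Additive.toMul x) (Additive.toMul x) = 1
        rw [← hx']
        exact Subtype.ext (commutatorElement_self _)
      nondeg := fun x h => by
        obtain ⟨x', hx'⟩ := QuotientGroup.mk_surjective (Additive.toMul x)
        apply Additive.toMul.injective
        rw [← hx', toMul_zero, QuotientGroup.eq_one_iff]
        show (x' : G) ∈ Z
        rw [← hCZ]
        refine Subgroup.mem_centralizer_iff.2 fun y hy => ?_
        have h1 : b3 (Additive.toMul x) (QuotientGroup.mk (⟨y, hy⟩ : N)) = 1 :=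
          congrArg Additive.toMul (h (Additive.ofMul (QuotientGroup.mk (⟨y, hy⟩ : N))))
        rw [← hx'] at h1
        exact (commutatorElement_eq_one_iff_mul_comm.1 (congrArg Subtype.val h1)).symm }
  -- the action
  let cjQ : G → Q →* Q := fun g => QuotientGroup.map Zn Zn (MulAut.conjNormal g).toMonoidHom fun z hz => by
    show (g * (z : G) * g⁻¹) ∈ Z
    exact (inferInstance : Z.Normal).conj_mem _ hz g
  letI : DistribMulAction G W :=
    { smul := fun g x => Additive.ofMul (cjQ g (Additive.toMul x))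
      one_smul := fun x => by
        obtain ⟨x', hx'⟩ := QuotientGroup.mk_surjective (Additive.toMul x)
        refine Additive.toMul.injective ?_
        show cjQ 1 (Additive.toMul x) = _
        rw [← hx']
        exact congrArg QuotientGroup.mk (Subtype.ext (by simp))
      mul_smul := fun g h x => by
        obtain ⟨x', hx'⟩ := QuotientGroup.mk_surjective (Additive.toMul x)
        refine Additive.toMul.injective ?_
        show cjQ (g * h) (Additive.toMul x) = cjQ g (cjQ h (Additive.toMul x))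
        rw [← hx']
        exact congrArg QuotientGroup.mk (Subtype.ext (by simp [mul_assoc]))
      smul_zero := fun g => congrArg Additive.ofMul (map_one (cjQ g))
      smul_add := fun g x y => congrArg Additive.ofMul (map_mul (cjQ g) _ _) }
  have hinv : ∀ (g : G) (x y : W), B.form (g • x) (g • y) = B.form x y := fun g x y => by
    refine congrArg Additive.ofMul ?_
    obtain ⟨x', hx'⟩ := QuotientGroup.mk_surjective (Additive.toMul x)
    obtain ⟨y', hy'⟩ := QuotientGroup.mk_surjective (Additive.toMul y)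
    show b3 (cjQ g (Additive.toMul x)) (cjQ g (Additive.toMul y)) = b3 (Additive.toMul x) (Additive.toMul y)
    rw [← hx', ← hy']
    refine Subtype.ext ?_
    show ⁅g * (x' : G) * g⁻¹, g * (y' : G) * g⁻¹⁆ = ⁅(x' : G), (y' : G)⁆
    rw [← conjugate_commutatorElement, hcen _ (hcm _ x'.2 _ y'.2), mul_inv_cancel_right]
  -- the kernel
  set π := toPermHom G W
  have hker : π.ker = N := by
    have hle : N ≤ π.ker := fun n hn => Equiv.ext fun x => by
      obtain ⟨x', hx'⟩ := QuotientGroup.mk_surjective (Additive.toMul x)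
      refine Additive.toMul.injective ?_
      show cjQ n (Additive.toMul x) = Additive.toMul x
      rw [← hx']
      refine (QuotientGroup.eq.2 ?_).symm
      show (((x' : N) : G))⁻¹ * (n * x' * n⁻¹) ∈ Z
      rw [show ((x' : N) : G)⁻¹ * (n * x' * n⁻¹) = ⁅(x' : G)⁻¹, n⁆ by rw [commutatorElement_def]; group]
      exact hcm _ (inv_mem x'.2) _ hn
    refine (Subgroup.eq_of_le_of_card_ge hle ?_).symm
    have hd : ∀ k : π.ker, ∀ x : N, (k : G) * x * (k : G)⁻¹ * (x : G)⁻¹ ∈ Z := fun k x => by
      have h := congrArg Additive.toMul (Equiv.congr_fun (MonoidHom.mem_ker.1 k.2)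
        (Additive.ofMul (QuotientGroup.mk x : Q)))
      have h2 : (QuotientGroup.mk (MulAut.conjNormal (k : G) x) : Q) = QuotientGroup.mk x := h
      rw [eq_comm, QuotientGroup.eq] at h2
      change (x : G)⁻¹ * ((k : G) * x * (k : G)⁻¹) ∈ Z at h2
      have h3 := (inferInstance : Z.Normal).conj_mem _ h2 x
      rwa [mul_inv_cancel_left] at h3
    let δ : π.ker → N →* Z := fun k => MonoidHom.mk' (fun x => ⟨_, hd k x⟩) fun x y => Subtype.ext (by
      show (k : G) * ((x : G) * y) * (k : G)⁻¹ * ((x : G) * y)⁻¹ =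
        (k : G) * x * (k : G)⁻¹ * (x : G)⁻¹ * ((k : G) * y * (k : G)⁻¹ * (y : G)⁻¹)
      calc (k : G) * ((x : G) * y) * (k : G)⁻¹ * ((x : G) * y)⁻¹
          = (k : G) * x * (k : G)⁻¹ * (((k : G) * y * (k : G)⁻¹ * (y : G)⁻¹) * (x : G)⁻¹) := by group
        _ = (k : G) * x * (k : G)⁻¹ * ((x : G)⁻¹ * ((k : G) * y * (k : G)⁻¹ * (y : G)⁻¹)) := by
          rw [hcen _ (hd k y) (x : G)⁻¹]
        _ = _ := by rw [← mul_assoc])
    have hδ : ∀ k, Zn ≤ (δ k).ker := fun k z hz => Subtype.ext (by
      show (k : G) * z * (k : G)⁻¹ * (z : G)⁻¹ = 1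
      rw [hcen (z : G) hz, mul_inv_cancel_right, mul_inv_cancel])
    haveI := finite_hom W C
    have h1 := card_le_fibre π.ker Z (fun k => (MonoidHom.toAdditive (QuotientGroup.lift Zn (δ k) (hδ k)) : W →+ C))
      fun a c hac => by
        rw [← hCZ]
        refine Subgroup.mem_centralizer_iff.2 fun x hx => ?_
        have h : δ a ⟨x, hx⟩ = δ c ⟨x, hx⟩ :=
          congrArg Additive.toMul (DFunLike.congr_fun hac (Additive.ofMul (QuotientGroup.mk (⟨x, hx⟩ : N) : Q)))
        have h' : (a : G) * x * (a : G)⁻¹ * x⁻¹ = (c : G) * x * (c : G)⁻¹ * x⁻¹ := congrArg Subtype.val h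
        rw [mul_left_inj] at h'
        calc x * ((a : G)⁻¹ * c) = (a : G)⁻¹ * ((a : G) * x * (a : G)⁻¹) * c := by group
          _ = (a : G)⁻¹ * ((c : G) * x * (c : G)⁻¹) * c := by rw [h']
          _ = (a : G)⁻¹ * c * x := by group
    have h2 := card_hom_le hC _ W rfl
    have h3 := Subgroup.card_eq_card_quotient_mul_card_subgroup Zn
    rw [Nat.card_congr (Subgroup.subgroupOfEquivOfLe hZN).toEquiv] at h3
    calc Nat.card π.ker ≤ Nat.card (W →+ C) * Nat.card Z := h1
      _ ≤ Nat.card W * Nat.card Z := Nat.mul_le_mul_right _ h2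
      _ = Nat.card N := h3.symm
  -- the nondegeneracy on invariant subgroups
  letI := rangeAct G W
  have hnd : ∀ U : AddSubgroup W, (∀ a : π.range, ∀ u ∈ U, a • u ∈ U) → U ⊓ B.perp U = ⊥ := by
    intro U hU
    set U₀ := U ⊓ B.perp U
    have hU₀ : ∀ g : G, ∀ u ∈ U₀, g • u ∈ U₀ := fun g u hu => by
      have hU' : ∀ g : G, ∀ u ∈ U, g • u ∈ U := fun g u hu => hU ⟨_, g, rfl⟩ u hu
      refine ⟨hU' g u hu.1, fun t ht => ?_⟩
      rw [← hinv g⁻¹, inv_smul_smul]
      exact hu.2 _ (hU' _ t ht)
    let M₀ : Subgroup N :=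
      { carrier := {x | Additive.ofMul (QuotientGroup.mk x : Q) ∈ U₀}
        one_mem' := U₀.zero_mem
        mul_mem' := fun hx hy => U₀.add_mem hx hy
        inv_mem' := fun hx => U₀.neg_mem hx }
    have hMn : (M₀.map N.subtype).Normal := ⟨by
      rintro _ ⟨x, hx, rfl⟩ g
      exact ⟨MulAut.conjNormal g x, hU₀ g _ hx, rfl⟩⟩
    have hMc : IsMulCommutative (M₀.map N.subtype) := ⟨⟨by
      rintro ⟨_, x, hx, rfl⟩ ⟨_, y, hy, rfl⟩
      have h : b3 (QuotientGroup.mk x) (QuotientGroup.mk y) = 1 :=
        congrArg Additive.toMul ((AddSubgroup.mem_inf.1 hy).2 _ (AddSubgroup.mem_inf.1 hx).1)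
      exact Subtype.ext (commutatorElement_eq_one_iff_mul_comm.1 (congrArg Subtype.val h))⟩⟩
    refine eq_bot_iff.2 fun u hu => AddSubgroup.mem_bot.2 ?_
    obtain ⟨x, hx⟩ := QuotientGroup.mk_surjective (Additive.toMul u)
    have h := hcentral _ (hscal _ hMn hMc (x : G) ⟨x, by
      show Additive.ofMul (QuotientGroup.mk x : Q) ∈ U₀
      rw [hx]; exact hu, rfl⟩)
    refine Additive.toMul.injective ?_
    rw [← hx, toMul_zero, QuotientGroup.eq_one_iff]
    exact h
  haveI : Group.IsSolvable π.range := Group.isSolvable_of_surjective π.rangeRestrict_surjective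
  obtain ⟨e, he, hA⟩ := subClassLE_symplectic _ π.range W C B hC rfl
    (by rintro ⟨_, g, rfl⟩ x y; exact hinv g x y) hnd
  -- the size of the quotient
  have htr : ∀ x ∈ N, x ∉ Z → LinearMap.trace ℂ V (ρ x) = 0 := by
    intro x hx hxZ
    obtain ⟨y, hy, hne⟩ : ∃ y ∈ N, x * y ≠ y * x := by
      by_contra hall
      push Not at hall
      exact hxZ (hCZ ▸ Subgroup.mem_centralizer_iff.2 fun y hy => (hall y hy).symm)
    obtain ⟨c, hc⟩ := hZscal _ (hcm y hy x hx)
    have hc1 : c ≠ 1 := fun h => hne (commutatorElement_eq_one_iff_mul_comm.1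
      (hρ (by rw [hc, h, one_smul, map_one]))).symm
    have h1 : ρ (y * x * y⁻¹) = c • ρ x := by
      rw [show y * x * y⁻¹ = ⁅y, x⁆ * x by rw [commutatorElement_def]; group, map_mul, hc, smul_mul_assoc,
        one_mul]
    have h2 := congrArg (LinearMap.trace ℂ V) h1
    rw [map_mul, LinearMap.trace_mul_comm, ← map_mul, inv_mul_cancel_left, map_smul, smul_eq_mul] at h2
    by_contra h0
    exact hc1 ((mul_eq_right₀ h0).1 h2.symm)
  haveI := Fintype.ofFinite Q
  have hli : LinearIndependent ℂ fun q : Q => ρ ((q.out : N) : G) := by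
    refine Fintype.linearIndependent_iff.2 fun a ha p => ?_
    have h := congrArg (fun F => LinearMap.trace ℂ V (F * ρ ((p.out : N) : G)⁻¹)) ha
    simp only [Finset.sum_mul, zero_mul, map_zero, map_sum, smul_mul_assoc, map_smul, smul_eq_mul, ← map_mul] at h
    rw [Finset.sum_eq_single p (fun q _ hq => ?_) (by simp)] at h
    · rw [mul_inv_cancel, map_one, LinearMap.trace_one, hr] at h
      exact (mul_eq_zero.1 h).resolve_right (by exact_mod_cast hr0.ne')
    · rw [htr _ (mul_mem q.out.2 (inv_mem p.out.2)) fun hmem => hq ?_, mul_zero]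
      rw [← QuotientGroup.out_eq' q, ← QuotientGroup.out_eq' p]
      refine (QuotientGroup.eq.2 ?_).symm
      show ((p.out : N) : G)⁻¹ * (q.out : N) ∈ Z
      have h3 := (inferInstance : Z.Normal).conj_mem _ hmem ((p.out : N) : G)⁻¹
      simpa [mul_assoc] using h3
  have hW : Nat.card W ≤ r * r := by
    have h := hli.fintype_card_le_finrank
    rw [Module.finrank_linearMap, hr, ← Nat.card_eq_fintype_card] at h
    exact h
  have her : e ≤ r := by
    by_contra h
    nlinarith
  -- conclusion
  have hNF : π.ker ≤ Cfsg.fittingSubgroup G := by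
    rw [hker]
    refine le_fittingSubgroup' hNn (Group.of_quotient_center_nilpotent ?_)
    · haveI : IsMulCommutative (N ⧸ Subgroup.center N) := ⟨⟨fun a b => by
        obtain ⟨x, rfl⟩ := QuotientGroup.mk_surjective a
        obtain ⟨y, rfl⟩ := QuotientGroup.mk_surjective b
        show QuotientGroup.mk (x * y) = QuotientGroup.mk (y * x)
        rw [QuotientGroup.eq, Subgroup.mem_center_iff]
        intro w
        have h := hcm _ (inv_mem y.2) _ (inv_mem x.2)
        refine Subtype.ext ?_
        have h' := hcen _ h (w : G)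
        simpa [commutatorElement_def, mul_assoc] using h'⟩⟩
      letI : CommGroup (N ⧸ Subgroup.center N) := { (inferInstance : Group (N ⧸ Subgroup.center N)) with mul_comm := mul_comm' }
      exact CommGroup.isNilpotent
  let T : π.range →* G ⧸ Cfsg.fittingSubgroup G :=
    (QuotientGroup.lift π.ker (QuotientGroup.mk' _) (by rw [QuotientGroup.ker_mk']; exact hNF)).comp
      (QuotientGroup.quotientKerEquivRange π).symm.toMonoidHom
  refine (SubClassLE.of_surjective T (fun y => ?_) hA).mono (Nat.pow_le_pow_right (by norm_num) (by omega))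
  obtain ⟨g, rfl⟩ := QuotientGroup.mk_surjective y
  refine ⟨QuotientGroup.quotientKerEquivRange π (QuotientGroup.mk g), ?_⟩
  simp [T]

omit [Finite G] [(Cfsg.fittingSubgroup G).Normal] in
/-- The bound in every degree. -/
theorem linBound : ∀ r, LinBound r := by
  intro r
  induction r using Nat.strong_induction_on with
  | _ r ih =>
    intro G _ _ _ _ V _ _ _ ρ hρ hr
    rcases Nat.eq_zero_or_pos r with rfl | hr0
    · refine SubClassLE.of_card ?_
      haveI : Subsingleton V := Module.finrank_zero_iff.1 hr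
      haveI : Subsingleton G := ⟨fun a b => hρ (LinearMap.ext fun v => Subsingleton.elim _ _)⟩
      exact (Nat.card_le_card_of_surjective _ QuotientGroup.mk_surjective).trans
        ((Finite.card_le_one_iff_subsingleton.2 ‹_›).trans (by norm_num))
    by_cases h : ∀ B : Subgroup G, B.Normal → IsMulCommutative B → ∀ b ∈ B, ∃ c : ℂ, ρ b = c • (1 : End ℂ V)
    · exact subClassLE_of_scalar ρ hρ hr hr0 h
    push Not at h
    obtain ⟨B, hB, hBc, b, hb, hns⟩ := h
    exact subClassLE_of_split ρ hρ hr ih B hBc hb hns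

end Cfsg.Lib.Solv.ClassCount
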