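import Cfsg.Agent.Lib.Solv.ClassCount.Eight
import Cfsg.Agent.Lib.Linear.SymplecticGroup

/-!
# Solvable isometry groups of four-dimensional spaces over the field with three elements
-/

set_option autoImplicit false
set_option linter.style.haveILetI false
set_option linter.unusedSectionVars false

namespace Cfsg.Lib.Solv.ClassCount

open MulAction

variable {A W C : Type} [Group A] [Finite A] [AddCommGroup W] [Finite W] [DistribMulAction A W]
  [FaithfulSMul A W] [AddCommGroup C] [Finite C] (B : Form W C)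

/-- The order of the isometry group. -/
theorem card_isometry_le (hC : Thin C) (hW : ∀ x : W, (3 : ℕ) • x = 0) (hcard : Nat.card W = 81)
    (hinv : ∀ (a : A) x y, B.form (a • x) (a • y) = B.form x y) : Nat.card A ≤ 51840 := by
  classical
  haveI : Fact (Nat.Prime 3) := ⟨Nat.prime_three⟩
  haveI : Nontrivial W := Finite.one_lt_card_iff_nontrivial.1 (by omega)
  haveI := Fintype.ofFinite W
  obtain ⟨x₁, hx₁⟩ := exists_ne (0 : W)
  obtain ⟨y₁, h₁⟩ := B.exists_ne hx₁
  obtain ⟨H, hxH, hyH, hH, hHn, hspan⟩ := B.exists_plane (p := 3) hW h₁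
  have hP := B.card_perp hC H
  rw [hH, hcard] at hP
  have hP9 : Nat.card (B.perp H) = 9 := by omega
  have hne0 : Nat.card {z : W // z ≠ 0} = 80 := by
    rw [Nat.card_eq_fintype_card, Fintype.card_subtype_compl, Fintype.card_subtype_eq,
      ← Nat.card_eq_fintype_card, hcard]
  haveI : Nontrivial (B.perp H) := Finite.one_lt_card_iff_nontrivial.1 (by omega)
  obtain ⟨x₂, hx₂⟩ := exists_ne (0 : B.perp H)
  set B' := B.restrict hC (B.perp_inf_perp hC hHn)
  obtain ⟨y₂, h₂⟩ := B'.exists_ne hx₂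
  have hne2 : Nat.card {z : B.perp H // z ≠ 0} = 8 := by
    haveI := Fintype.ofFinite (B.perp H)
    rw [Nat.card_eq_fintype_card, Fintype.card_subtype_compl, Fintype.card_subtype_eq,
      ← Nat.card_eq_fintype_card, hP9]
  set A₁ := stabilizer A x₁
  set A₂ := A₁ ⊓ stabilizer A y₁
  set A₃ := A₂ ⊓ stabilizer A (x₂ : W)
  have hH2 : ∀ a ∈ A₂, ∀ h ∈ H, a • h = h := fun a ha h hh => by
    obtain ⟨i, j, rfl⟩ := hspan h hh
    rw [smul_add, smul_comm a i x₁, smul_comm a j y₁, (Subgroup.mem_inf.1 ha).1, (Subgroup.mem_inf.1 ha).2]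
  have hperp : ∀ a ∈ A₂, ∀ z ∈ B.perp H, a • z ∈ B.perp H := fun a ha z hz h hh => by
    rw [← hH2 a ha h hh, hinv]
    exact hz h hh
  have c1 : Nat.card A ≤ 80 * Nat.card A₁ := by
    rw [← hne0, ← Subgroup.card_top]
    refine card_le_fibre ⊤ A₁ (fun a => (⟨(a : A) • x₁, smul_ne_zero_iff_ne _ |>.2 hx₁⟩ : {z : W // z ≠ 0}))
      fun a c h => ?_
    have e : (a : A) • x₁ = (c : A) • x₁ := congrArg Subtype.val h
    rw [mem_stabilizer_iff, mul_smul, ← e, inv_smul_smul]
  have c2 : Nat.card A₁ ≤ 27 * Nat.card A₂ := by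
    have hl := B.card_level_mul_le hW hx₁ (B.form x₁ y₁)
    refine (card_le_fibre A₁ A₂ (fun a => (⟨(a : A) • y₁, by
      conv_lhs => rw [← (a.2 : (a : A) • x₁ = x₁)]
      exact hinv _ _ _⟩ : {y : W // B.form x₁ y = B.form x₁ y₁})) fun a c h => ?_).trans
      (Nat.mul_le_mul_right _ (by omega))
    have e : (a : A) • y₁ = (c : A) • y₁ := congrArg Subtype.val h
    refine Subgroup.mem_inf.2 ⟨mul_mem (inv_mem a.2) c.2, ?_⟩
    rw [mem_stabilizer_iff, mul_smul, ← e, inv_smul_smul]
  have c3 : Nat.card A₂ ≤ 8 * Nat.card A₃ := by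
    rw [← hne2]
    refine card_le_fibre A₂ A₃ (fun a => (⟨⟨(a : A) • (x₂ : W), hperp a a.2 _ x₂.2⟩, fun h => hx₂ ?_⟩ :
      {z : B.perp H // z ≠ 0})) fun a c h => ?_
    · exact Subtype.ext ((smul_eq_zero_iff_eq (a : A)).1 (congrArg Subtype.val h))
    · have e : (a : A) • (x₂ : W) = (c : A) • (x₂ : W) :=
        congrArg (fun t : {z : B.perp H // z ≠ 0} => ((t : B.perp H) : W)) h
      refine Subgroup.mem_inf.2 ⟨mul_mem (inv_mem a.2) c.2, ?_⟩
      rw [mem_stabilizer_iff, mul_smul, ← e, inv_smul_smul]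
  have c4 : Nat.card A₃ ≤ 3 * Nat.card (⊥ : Subgroup A) := by
    have hl := B'.card_level_mul_le (fun z => Subtype.ext (hW z)) hx₂ (B'.form x₂ y₂)
    refine (card_le_fibre A₃ ⊥ (fun a => (⟨⟨(a : A) • (y₂ : W), hperp a (Subgroup.mem_inf.1 a.2).1 _ y₂.2⟩, by
      show B.form (x₂ : W) ((a : A) • (y₂ : W)) = B.form (x₂ : W) y₂
      conv_lhs => rw [← ((Subgroup.mem_inf.1 a.2).2 : (a : A) • (x₂ : W) = x₂)]
      exact hinv _ _ _⟩ : {y : B.perp H // B'.form x₂ y = B'.form x₂ y₂})) fun a c h => ?_).trans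
      (Nat.mul_le_mul_right _ (by omega))
    have e : (a : A) • (y₂ : W) = (c : A) • (y₂ : W) :=
      congrArg (fun t : {y : B.perp H // B'.form x₂ y = B'.form x₂ y₂} => ((t : B.perp H) : W)) h
    rw [Subgroup.mem_bot]
    have hd : (a : A)⁻¹ * c ∈ A₃ := mul_mem (inv_mem a.2) c.2
    obtain ⟨K, hx₂K, hy₂K, hK, hKn, hKspan⟩ := B.exists_plane (p := 3) hW
      (x := (x₂ : W)) (y := (y₂ : W)) h₂
    have hKP : K = B.perp H := AddSubgroup.eq_of_le_of_card_ge (fun k hk => by
      obtain ⟨i, j, rfl⟩ := hKspan k hk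
      exact add_mem (zsmul_mem x₂.2 i) (zsmul_mem y₂.2 j)) (by omega)
    have hy : ((a : A)⁻¹ * c) • (y₂ : W) = y₂ := by rw [mul_smul, ← e, inv_smul_smul]
    refine eq_of_smul_eq_smul fun w : W => ?_
    rw [one_smul]
    obtain ⟨u, hu, v, hv, rfl⟩ := AddSubgroup.mem_sup.1 (B.sup_perp hC hHn ▸ AddSubgroup.mem_top w)
    rw [smul_add, hH2 _ (Subgroup.mem_inf.1 hd).1 u hu]
    obtain ⟨i, j, rfl⟩ := hKspan v (hKP ▸ hv)
    rw [smul_add, smul_comm _ i (x₂ : W), smul_comm _ j (y₂ : W), (Subgroup.mem_inf.1 hd).2, hy]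
  rw [Subgroup.card_bot] at c4
  omega

/-- The solvable isometry groups. -/
theorem subClassLE_nine [Group.IsSolvable A] (hC : Thin C) (hW : ∀ x : W, (3 : ℕ) • x = 0)
    (hcard : Nat.card W = 81) (hinv : ∀ (a : A) x y, B.form (a • x) (a • y) = B.form x y) :
    SubClassLE A 6561 := by
  classical
  haveI : Fact (Nat.Prime 3) := ⟨Nat.prime_three⟩
  haveI : Nontrivial W := Finite.one_lt_card_iff_nontrivial.1 (by omega)
  letI : Module (ZMod 3) W := AddCommGroup.zmodModule hW
  obtain ⟨x₀, hx₀⟩ := exists_ne (0 : W)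
  obtain ⟨y₀, h₀⟩ := B.exists_ne hx₀
  set c₀ := B.form x₀ y₀ with hc₀
  have hv : ∀ x y, (3 : ℕ) • B.form x y = 0 := fun x y => by rw [← map_nsmul, hW, map_zero]
  let ψ : ZMod 3 →+ C := ZMod.lift 3 ⟨zmultiplesHom C c₀, by
    show (((3 : ℕ) : ℤ)) • c₀ = 0
    rw [natCast_zsmul]; exact hv x₀ y₀⟩
  have hψ1 : ψ 1 = c₀ := by
    rw [← Int.cast_one]
    simp only [ψ, ZMod.lift_coe, zmultiplesHom_apply, one_zsmul]
  have hψ : Function.Injective ψ := by
    refine (injective_iff_map_eq_zero _).2 fun z hz => ?_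
    rw [← ZMod.natCast_zmod_val z, ← nsmul_one, map_nsmul, hψ1, ← addOrderOf_dvd_iff_nsmul_eq_zero,
      addOrderOf_eq_prime (hv x₀ y₀) h₀] at hz
    rw [← ZMod.natCast_zmod_val z]
    exact (ZMod.natCast_eq_zero_iff _ _).2 hz
  have hrange : ∀ x y, B.form x y ∈ ψ.range := fun x y => by
    have hsub : ∀ z, (3 : ℕ) • ψ z = 0 := fun z => by
      rw [← map_nsmul, nsmul_eq_mul, show ((3 : ℕ) : ZMod 3) = 0 from rfl, zero_mul, map_zero]
    have hbij := (Nat.bijective_iff_injective_and_card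
      (fun z => (⟨ψ z, hsub z⟩ : {c : C // (3 : ℕ) • c = 0}))).2
      ⟨fun a b h => hψ (congrArg Subtype.val h), le_antisymm
        (Nat.card_le_card_of_injective (fun z => (⟨ψ z, hsub z⟩ : {c : C // (3 : ℕ) • c = 0}))
          fun a b h => hψ (congrArg Subtype.val h)) (by simpa using hC 3 (by norm_num))⟩
    obtain ⟨z, hz⟩ := hbij.2 ⟨_, hv x y⟩
    exact ⟨z, congrArg Subtype.val hz⟩
  choose β hβ using hrange
  have hβadd : ∀ x y z, β x (y + z) = β x y + β x z := fun x y z => hψ (by rw [map_add, hβ, hβ, hβ, map_add])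
  have hβadd' : ∀ x y z, β (x + y) z = β x z + β y z := fun x y z => hψ (by
    rw [map_add, hβ, hβ, hβ, map_add, AddMonoidHom.add_apply])
  let L : W →+ W →+ ZMod 3 := AddMonoidHom.mk' (fun x => AddMonoidHom.mk' (β x) (hβadd x))
    fun x y => AddMonoidHom.ext fun z => hβadd' x y z
  let β' : LinearMap.BilinForm (ZMod 3) W :=
    AddMonoidHom.toZModLinearMap 3
      ({ toFun := fun x => (L x).toZModLinearMap 3
         map_zero' := LinearMap.ext fun z => by simp
         map_add' := fun x y => LinearMap.ext fun z => by simp } : W →+ (W →ₗ[ZMod 3] ZMod 3))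
  have hβ' : ∀ x y, ψ (β' x y) = B.form x y := fun x y => hβ x y
  have hA : β'.IsAlt := fun x => hψ (by rw [hβ', B.alt, map_zero])
  have hBn : β'.Nondegenerate := by
    refine ⟨fun x h => B.nondeg x fun y => ?_, fun x h => B.nondeg x fun y => ?_⟩
    · rw [← hβ', h y, map_zero]
    · rw [B.swap, ← hβ', h y, map_zero, neg_zero]
  have h4 : 4 ≤ Module.finrank (ZMod 3) W := by
    have h := Module.natCard_eq_pow_finrank (K := ZMod 3) (V := W)
    rw [hcard, Nat.card_zmod] at h
    by_contra hlt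
    have := Nat.pow_le_pow_right (show 0 < 3 by norm_num) (show Module.finrank (ZMod 3) W ≤ 3 by omega)
    omega
  have h2 : (2 : ZMod 3) ≠ 0 := fun h => by
    have := (ZMod.natCast_eq_zero_iff 2 3).1 (by exact_mod_cast h)
    omega
  have hperf := Cfsg.Lib.Linear.Symp.commutator_eq_top hBn hA (Or.inr (Or.inl ⟨h4, Or.inl h2⟩))
  set Γ := Cfsg.Lib.Linear.Symp.iso β'
  haveI := Cfsg.Lib.Linear.Symp.isSimpleGroup_quotient hBn hA hperf
  set Q := Γ ⧸ Subgroup.center Γ
  haveI : Finite Γ := Finite.of_injective (fun g : Γ => ((g : W ≃ₗ[ZMod 3] W) : W → W))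
    fun g h e => Subtype.ext (LinearEquiv.ext fun x => congrFun e x)
  haveI : FaithfulSMul Γ W := ⟨fun h => Subtype.ext (LinearEquiv.ext h)⟩
  have hΓ : Nat.card Γ ≤ 51840 := card_isometry_le (A := Γ) B hC hW hcard fun g x y => by
    rw [← hβ', ← hβ']
    exact congrArg ψ (g.2 x y)
  have hZ : Nat.card (Subgroup.center Γ) = 2 := by
    rw [Cfsg.Lib.Linear.Symp.card_center hBn hA, Nat.card_eq_fintype_card]
    rfl
  let φ : A →* Γ :=
    { toFun := fun a => ⟨{ (DistribMulAction.toAddEquiv W a) with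
          map_smul' := ZMod.map_smul (DistribMulAction.toAddEquiv W a).toAddMonoidHom },
        fun x y => hψ (by rw [hβ', hβ']; exact hinv a x y)⟩
      map_one' := Subtype.ext (LinearEquiv.ext fun x => one_smul A x)
      map_mul' := fun a b => Subtype.ext (LinearEquiv.ext fun x => mul_smul a b x) }
  have hφ : Function.Injective φ := fun a b h => eq_of_smul_eq_smul fun x : W =>
    LinearEquiv.congr_fun (congrArg Subtype.val h) x
  set π := QuotientGroup.mk' (Subgroup.center Γ)
  set R := (π.comp φ).range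
  haveI : Group.IsSolvable R := Group.isSolvable_of_surjective (π.comp φ).rangeRestrict_surjective
  have hperfQ : commutator Q = ⊤ := by
    rw [commutator_def, ← Subgroup.map_top_of_surjective π (QuotientGroup.mk'_surjective _),
      ← Subgroup.map_commutator, ← commutator_def, hperf]
  have hR : R ≠ ⊤ := fun h => by
    haveI : Group.IsSolvable Q := Group.isSolvable_of_surjective (f := R.subtype)
      (fun x => ⟨⟨x, h ▸ Subgroup.mem_top x⟩, rfl⟩)
    exact (Group.IsSolvable.commutator_lt_top_of_nontrivial (G := Q)).ne hperfQ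
  have hcore : R.normalCore = ⊥ := (Subgroup.normalCore_normal R).eq_bot_or_eq_top.resolve_right
    fun h => hR (top_le_iff.1 (h ▸ R.normalCore_le))
  have hfac : Nat.card Q ≤ R.index.factorial := by
    rw [Subgroup.index, ← Nat.card_perm]
    refine Nat.card_le_card_of_injective (MulAction.toPermHom Q (Q ⧸ R)) ?_
    rw [← MonoidHom.ker_eq_bot_iff, ← Subgroup.normalCore_eq_ker, hcore]
  have hQ : 2 * Nat.card Q ≤ 51840 := by
    have h := Subgroup.card_eq_card_quotient_mul_card_subgroup (Subgroup.center Γ)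
    rw [hZ] at h
    change Nat.card Γ = Nat.card Q * 2 at h
    omega
  have hAR : Nat.card A ≤ 2 * Nat.card R := by
    rw [← hZ, mul_comm, ← Subgroup.card_mul_index (π.comp φ).ker, Subgroup.index_ker, mul_comm]
    refine Nat.mul_le_mul_left _ ?_
    exact Nat.card_le_card_of_injective (fun a => (⟨φ (a : A), (QuotientGroup.eq_one_iff _).1 a.2⟩ :
      Subgroup.center Γ)) fun a b h => Subtype.ext (hφ (congrArg Subtype.val h))
  have hmul := Subgroup.card_mul_index R
  have hi : 2 ≤ R.index := by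
    rcases Nat.lt_or_ge R.index 2 with h | h
    · exfalso
      have := Subgroup.index_ne_zero_of_finite (H := R)
      exact hR (Subgroup.index_eq_one.1 (by omega))
    · exact h
  refine SubClassLE.of_card ?_
  change Nat.card R * R.index = Nat.card Q at hmul
  generalize R.index = i at hmul hi hfac
  rcases le_or_gt 8 i with h8 | h8
  · have : Nat.card R * 8 ≤ Nat.card Q := hmul ▸ Nat.mul_le_mul_left _ h8
    omega
  · interval_cases i <;> simp only [Nat.factorial] at hfac <;> omega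

end Cfsg.Lib.Solv.ClassCount
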