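import Cfsg.Agent.Lib.Solv.ClassCount.Perm

/-!
# Orders of solvable permutation groups

A solvable permutation group of degree `n` has order at most `ob n ≤ 3 ^ (n - 1)`.
-/

set_option autoImplicit false
set_option linter.style.haveILetI false
set_option linter.unusedSectionVars false

namespace Cfsg.Lib.Solv.ClassCount

/-- The bound for the orders of the solvable permutation groups of a given degree. -/
def ob (n : ℕ) : ℕ :=
  if n ≤ 6 then [1, 1, 2, 6, 24, 24, 72].getD n 0 else 3 ^ (n - 1)

theorem ob_of_gt {n : ℕ} (h : 6 < n) : ob n = 3 ^ (n - 1) := if_neg (by omega)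

theorem ob_le (n : ℕ) : ob n ≤ 3 ^ (n - 1) := by
  rcases le_or_gt n 6 with h | h
  · interval_cases n <;> decide
  · rw [ob_of_gt h]

theorem pb_le_ob (n : ℕ) (h : 4 < n) : pb n ≤ ob n := by
  rcases le_or_gt n 6 with h6 | h6
  · interval_cases n <;> decide
  · rw [ob_of_gt h6, pb_of_gt h6]

theorem ob_mul_le {a b : ℕ} (ha : 0 < a) (hb : 0 < b) : ob a * ob b ≤ ob (a + b) := by
  rcases le_or_gt (a + b) 6 with h | h
  · have : a ≤ 5 := by omega
    have : b ≤ 5 := by omega
    interval_cases a <;> interval_cases b <;> first | omega | decide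
  · refine (Nat.mul_le_mul (ob_le a) (ob_le b)).trans ?_
    rw [← pow_add, ob_of_gt h]
    exact Nat.pow_le_pow_right (by norm_num) (by omega)

theorem ob_pow_mul_le {a m : ℕ} (ha : 2 ≤ a) (hm : 2 ≤ m) : ob a ^ m * ob m ≤ ob (a * m) := by
  rcases le_or_gt (a * m) 6 with h | h
  · have : a ≤ 3 := by nlinarith
    have : m ≤ 3 := by nlinarith
    interval_cases a <;> interval_cases m <;> first | omega | decide
  · refine (Nat.mul_le_mul (Nat.pow_le_pow_left (ob_le a) m) (ob_le m)).trans ?_
    rw [← pow_mul, ← pow_add, ob_of_gt h]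
    refine Nat.pow_le_pow_right (by norm_num) ?_
    obtain ⟨a, rfl⟩ : ∃ c, a = c + 1 := ⟨a - 1, by omega⟩
    rw [Nat.add_sub_cancel, add_mul, one_mul]
    omega

open MulAction Cfsg.Lib.Core
open scoped Pointwise

/-- The statement in degree `n`. -/
def OB (n : ℕ) : Prop :=
  ∀ (A : Subgroup (Equiv.Perm (Fin n))), Group.IsSolvable A → Nat.card A ≤ ob n

theorem OB.transfer {A Ω : Type*} [Group A] [Finite A] [Finite Ω] (f : A →* Equiv.Perm Ω)
    (h : OB (Nat.card Ω)) [Group.IsSolvable A] : Nat.card f.range ≤ ob (Nat.card Ω) := by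
  let e : Equiv.Perm Ω ≃* Equiv.Perm (Fin (Nat.card Ω)) := (Finite.equivFin Ω).permCongrHom
  set g := e.toMonoidHom.comp f.range.subtype
  haveI : Group.IsSolvable f.range := Group.isSolvable_of_surjective f.rangeRestrict_surjective
  haveI : Group.IsSolvable g.range := Group.isSolvable_of_surjective g.rangeRestrict_surjective
  exact (Nat.card_le_card_of_injective g.rangeRestrict
    (fun x y hxy => Subtype.ext (e.injective (congrArg Subtype.val hxy)))).trans (h g.range ‹_›)

/-- An action with an equivariant map. -/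
theorem OB.fibred {A Ω J : Type*} [Group A] [Finite A] [Group.IsSolvable A] [MulAction A Ω] [FaithfulSMul A Ω]
    [Finite Ω] [Fintype J] (π : Ω → J) (σ : A →* Equiv.Perm J) (hπ : ∀ (a : A) x, π (a • x) = σ a (π x))
    (hfib : ∀ j, OB (Nat.card {x // π x = j})) {m : ℕ} (hσ : Nat.card σ.range ≤ m) :
    Nat.card A ≤ (∏ j, ob (Nat.card {x // π x = j})) * m := by
  rw [← Subgroup.card_mul_index σ.ker, Subgroup.index_ker]
  refine Nat.mul_le_mul ?_ hσ
  have hinv : ∀ (j : J) (a : σ.ker) (x : Ω),
      π ((MulAction.toPermHom A Ω).comp σ.ker.subtype a x) = j ↔ π x = j := fun j a x => by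
    show π ((a : A) • x) = j ↔ _
    rw [hπ, MonoidHom.mem_ker.1 a.2, Equiv.Perm.one_apply]
  let f : ∀ j, σ.ker →* Equiv.Perm {x // π x = j} := fun j =>
    restrictHom ((MulAction.toPermHom A Ω).comp σ.ker.subtype) (fun x => π x = j) (hinv j)
  refine (Nat.card_le_card_of_injective (fun a : σ.ker => fun j => (f j).rangeRestrict a) fun a b hab => ?_).trans
    (Nat.card_pi.trans_le (Finset.prod_le_prod' fun j _ => OB.transfer _ (hfib j)))
  exact Subtype.ext (eq_of_smul_eq_smul fun x : Ω => congrArg Subtype.val (Equiv.congr_fun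
    (congrArg Subtype.val (congrFun hab (π x)) : f (π x) a = f (π x) b) ⟨x, rfl⟩))

namespace Order

section Step

variable {n : ℕ} (ih : ∀ k < n, OB k) {A : Type} [Group A] [Finite A] [Group.IsSolvable A]
  [MulAction A (Fin n)] [FaithfulSMul A (Fin n)]

include ih

theorem intransitive (h : ¬ IsPretransitive A (Fin n)) : Nat.card A ≤ ob n := by
  classical
  obtain ⟨a, b, hab⟩ : ∃ a b : Fin n, b ∉ orbit A a := by
    by_contra hc
    push Not at hc
    exact h ⟨hc⟩
  have hinv : ∀ (g : A) x, g • x ∈ orbit A a ↔ x ∈ orbit A a := fun g x =>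
    ⟨fun hx => by have := mem_orbit_of_mem_orbit g⁻¹ hx; rwa [inv_smul_smul] at this,
      mem_orbit_of_mem_orbit g⟩
  set π : Fin n → Bool := fun x => decide (x ∈ orbit A a) with hπ
  have hsum : Nat.card {x // π x = true} + Nat.card {x // π x = false} = n := by
    conv_rhs => rw [← Nat.card_fin n, Nat.card_congr (Equiv.sigmaFiberEquiv π).symm, Nat.card_sigma,
      Fintype.sum_bool]
  have hpos : 0 < Nat.card {x // π x = true} ∧ 0 < Nat.card {x // π x = false} :=
    ⟨Nat.card_pos_iff.2 ⟨⟨a, by simp [hπ]⟩, inferInstance⟩,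
      Nat.card_pos_iff.2 ⟨⟨b, by simp [hπ, hab]⟩, inferInstance⟩⟩
  refine (OB.fibred π (1 : A →* Equiv.Perm Bool) (fun g x => ?_) (fun j => ih _ ?_) (m := 1) ?_).trans ?_
  · rw [MonoidHom.one_apply, Equiv.Perm.one_apply]
    simp only [hπ, hinv]
  · cases j <;> omega
  · rw [MonoidHom.range_one, Subgroup.card_bot]
  · rw [mul_one, Fintype.prod_bool]
    exact (ob_mul_le hpos.1 hpos.2).trans (le_of_eq (by rw [hsum]))

theorem imprimitive [IsPretransitive A (Fin n)] {X : Set (Fin n)} (hX : IsBlock A X)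
    (hX1 : ¬ X.Subsingleton) (hX2 : X ≠ Set.univ) : Nat.card A ≤ ob n := by
  classical
  obtain ⟨x₀, hx₀, x₁, hx₁, hne⟩ := Set.not_subsingleton_iff.1 hX1
  have heq : ∀ g g' : A, ∀ x, x ∈ g • X → x ∈ g' • X → g • X = g' • X := fun g g' x h h' => by
    by_contra hc
    exact Set.disjoint_left.1 (hX hc) h h'
  have ht : ∀ x : Fin n, ∃ t : A, x ∈ t • X := fun x => by
    obtain ⟨g, rfl⟩ := exists_smul_eq A x₀ x
    exact ⟨g, Set.smul_mem_smul_set hx₀⟩
  choose t ht using ht
  let π : Fin n → orbit A X := fun x => ⟨t x • X, t x, rfl⟩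
  haveI : Fintype (orbit A X) := Fintype.ofFinite _
  have hπ : ∀ (g : A) x, π (g • x) = MulAction.toPermHom A (orbit A X) g (π x) := fun g x => by
    refine Subtype.ext ?_
    show t (g • x) • X = g • (t x • X)
    rw [smul_smul]
    refine heq _ _ (g • x) (ht _) ?_
    rw [mul_smul]
    exact Set.smul_mem_smul_set (ht x)
  have hmem : ∀ (Y : orbit A X) x, π x = Y ↔ x ∈ (Y : Set (Fin n)) := fun Y x => by
    obtain ⟨g, hg⟩ := Y.2
    refine ⟨fun h => h ▸ ht x, fun h => Subtype.ext ?_⟩
    show t x • X = _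
    have hg' : g • X = (Y : Set (Fin n)) := hg
    rw [← hg']
    exact heq _ _ x (ht x) (by rw [hg']; exact h)
  have hfib : ∀ Y : orbit A X, Nat.card {x // π x = Y} = Nat.card X := fun Y => by
    obtain ⟨g, hg⟩ := Y.2
    rw [Nat.card_congr (Equiv.subtypeEquivRight (hmem Y)), ← hg]
    exact (Nat.card_congr ((MulAction.toPerm g).image X)).symm
  have hcard : Nat.card X * Nat.card (orbit A X) = n := by
    conv_rhs => rw [← Nat.card_fin n, Nat.card_congr (Equiv.sigmaFiberEquiv π).symm, Nat.card_sigma,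
      Finset.sum_congr rfl fun Y _ => hfib Y, Finset.sum_const, Finset.card_univ, smul_eq_mul,
      ← Nat.card_eq_fintype_card, mul_comm]
  have hX2' : 2 ≤ Nat.card X := by
    have hX' : ({x₀, x₁} : Finset (Fin n)) ⊆ X.toFinset := by
      intro x hx
      simp only [Finset.mem_insert, Finset.mem_singleton] at hx
      rcases hx with rfl | rfl <;> simpa
    have h := Finset.card_le_card hX'
    rw [Finset.card_pair hne, Set.toFinset_card, ← Nat.card_eq_fintype_card] at h
    exact h
  have hm : 2 ≤ Nat.card (orbit A X) := by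
    rcases Nat.lt_or_ge 1 (Nat.card (orbit A X)) with h | h
    · exact h
    refine absurd (Set.eq_univ_of_forall fun x => ?_) hX2
    haveI : Subsingleton (orbit A X) := Finite.card_le_one_iff_subsingleton.1 h
    have h1 := (hmem ⟨X, mem_orbit_self X⟩ x).1 (Subsingleton.elim _ _)
    exact h1
  have hlt : Nat.card X < n ∧ Nat.card (orbit A X) < n := by
    constructor <;> nlinarith
  refine (OB.fibred π _ hπ (fun Y => ih _ (by rw [hfib]; exact hlt.1)) (OB.transfer _ (ih _ hlt.2))).trans ?_
  rw [Finset.prod_congr rfl fun Y _ => by rw [hfib Y], Finset.prod_const, Finset.card_univ,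
    ← Nat.card_eq_fintype_card]
  exact (ob_pow_mul_le hX2' hm).trans (le_of_eq (by rw [hcard]))

omit ih in
theorem primitive [IsPreprimitive A (Fin n)] (h3 : 4 < n) : Nat.card A ≤ ob n := by
  classical
  haveI : Nonempty (Fin n) := ⟨⟨0, by omega⟩⟩
  haveI : Nontrivial A := by
    by_contra h
    rw [not_nontrivial_iff_subsingleton] at h
    obtain ⟨g, hg⟩ := exists_smul_eq A (⟨0, by omega⟩ : Fin n) ⟨1, by omega⟩
    rw [Subsingleton.elim g 1, one_smul] at hg
    simp at hg
  obtain ⟨M, hMn, hM, hmin⟩ : ∃ M : Subgroup A, M.Normal ∧ M ≠ ⊥ ∧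
      ∀ K : Subgroup A, K.Normal → K ≤ M → K = ⊥ ∨ K = M := by
    obtain ⟨M, hM⟩ := (Set.toFinite {M : Subgroup A | M.Normal ∧ M ≠ ⊥}).exists_minimal
      ⟨⊤, inferInstance, top_ne_bot⟩
    refine ⟨M, hM.prop.1, hM.prop.2, fun K hK hle => ?_⟩
    rcases eq_or_ne K ⊥ with h | h
    · exact Or.inl h
    · exact Or.inr (le_antisymm hle (hM.le_of_le ⟨hK, h⟩ hle))
  haveI := hMn
  obtain ⟨hab, htr, hreg, -⟩ := Cfsg.Lib.Solv.primitive_regular (Ω := Fin n) ‹_› hM hmin
  have hMin : IsMinNormal M := ⟨hMn, hM, hmin⟩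
  obtain ⟨-, p, hp, -, hpg⟩ := minimal_solvable_elementary hMin inferInstance
  haveI := Fact.mk hp
  obtain ⟨d, hd⟩ := IsPGroup.iff_card.1 hpg
  let ω : Fin n := ⟨0, by omega⟩
  have hbij : Function.Bijective (fun m : M => m • ω) := by
    refine ⟨fun a b hab' => ?_, fun x => exists_smul_eq M ω x⟩
    have h : b⁻¹ * a ∈ stabilizer M ω := by
      rw [mem_stabilizer_iff, mul_smul]
      exact (congrArg (b⁻¹ • ·) hab').trans (inv_smul_smul b ω)
    rw [hreg ω, Subgroup.mem_bot, inv_mul_eq_one] at h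
    exact h.symm
  have hcard : Nat.card M = n := (Nat.card_eq_of_bijective _ hbij).trans (Nat.card_fin n)
  -- the action on the nonidentity elements
  have hP : ∀ (a : A) (m : M), (MulAut.conjNormal a : M ≃* M) m ≠ 1 ↔ m ≠ 1 := fun a m =>
    not_congr (MulEquiv.map_eq_one_iff _)
  let τ : A →* Equiv.Perm M :=
    { toFun := fun a => (MulAut.conjNormal a : M ≃* M).toEquiv
      map_one' := by ext m; simp
      map_mul' := fun a b => by ext m; simp }
  let σ : A →* Equiv.Perm {m : M // m ≠ 1} := restrictHom τ (fun m => m ≠ 1) hP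
  have hker : Nat.card σ.ker ≤ n := by
    rw [← Nat.card_fin n]
    refine Nat.card_le_card_of_injective (fun c : σ.ker => (c : A) • ω) fun c c' hcc => ?_
    have hcomm : ∀ (k : σ.ker) (m : M), (k : A) * m * (k : A)⁻¹ = m := fun k m => by
      rcases eq_or_ne m 1 with rfl | hm
      · simp
      · exact congrArg (fun z : {m : M // m ≠ 1} => ((z : M) : A))
          (Equiv.congr_fun (MonoidHom.mem_ker.1 k.2) ⟨m, hm⟩)
    have hfix : ((c'⁻¹ * c : σ.ker) : A) • ω = ω := by
      rw [Subgroup.coe_mul, Subgroup.coe_inv, mul_smul]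
      exact (congrArg ((c' : A)⁻¹ • ·) hcc).trans (inv_smul_smul _ ω)
    have hone : (c'⁻¹ * c : σ.ker) = 1 := Subtype.ext (eq_of_smul_eq_smul fun x : Fin n => by
      obtain ⟨m, rfl⟩ := exists_smul_eq M ω x
      have hk := hcomm (c'⁻¹ * c) m
      rw [mul_inv_eq_iff_eq_mul] at hk
      show _ • ((m : A) • ω) = (1 : A) • ((m : A) • ω)
      rw [one_smul, smul_smul, hk, mul_smul, hfix])
    exact (inv_mul_eq_one.1 hone).symm
  have hσcard : Nat.card {m : M // m ≠ 1} = n - 1 := by
    haveI := Fintype.ofFinite M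
    rw [Nat.card_eq_fintype_card, Fintype.card_subtype_compl, Fintype.card_subtype_eq,
      ← Nat.card_eq_fintype_card, hcard]
  obtain ⟨S, hS1, hS, hSle⟩ := exists_small_generators M hp hd
  have hrange : Nat.card σ.range ≤ (n - 1).descFactorial S.card := by
    haveI := Fintype.ofFinite {m : M // m ≠ 1}
    rw [← hσcard, Nat.card_eq_fintype_card (α := {m : M // m ≠ 1}), ← Fintype.card_coe S,
      ← Fintype.card_embedding_eq, ← Nat.card_eq_fintype_card]
    refine Nat.card_le_card_of_injective
      (fun q : σ.range => (⟨fun s => (q : Equiv.Perm _) ⟨(s : M), fun e => hS1 (e ▸ s.2)⟩,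
        fun s s' e => by
          have e' := (q : Equiv.Perm {m : M // m ≠ 1}).injective e
          have e'' := congrArg (fun z : {m : M // m ≠ 1} => (z : M)) e'
          exact Subtype.ext e''⟩ :
        S ↪ {m : M // m ≠ 1})) ?_
    rintro ⟨q, a, rfl⟩ ⟨q', a', rfl⟩ e
    refine Subtype.ext (Equiv.ext fun m => Subtype.ext ?_)
    have hh : (MulAut.conjNormal a : M ≃* M).toMonoidHom = (MulAut.conjNormal a' : M ≃* M).toMonoidHom :=
      MonoidHom.eq_of_eqOn_dense hS fun s hs =>
        congrArg (fun z : {m : M // m ≠ 1} => (z : M)) (DFunLike.congr_fun e (⟨s, hs⟩ : S))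
    exact DFunLike.congr_fun hh (m : M)
  rw [← Subgroup.card_mul_index σ.ker, Subgroup.index_ker]
  exact (Nat.mul_le_mul hker hrange).trans ((primitive_arith hp (hd.symm.trans hcard) (hSle.trans_eq hcard)
    (by omega)).trans (pb_le_ob _ (by omega)))

end Step

/-- The class numbers of the subgroups of solvable permutation groups. -/
theorem ob_all : ∀ n, OB n := by
  intro n
  induction n using Nat.strong_induction_on with
  | _ n ih =>
    intro A hA
    rcases le_or_gt n 4 with h2 | h2
    · refine (Subgroup.card_le_card_group A).trans ?_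
      rw [Nat.card_perm, Nat.card_fin]
      interval_cases n <;> decide
    haveI := hA
    by_cases htr : IsPretransitive A (Fin n)
    · by_cases hprim : ∀ X : Set (Fin n), IsBlock A X → IsTrivialBlock X
      · haveI : IsPreprimitive A (Fin n) :=
          { toIsPretransitive := htr, isTrivialBlock_of_isBlock := fun h => hprim _ h }
        exact primitive h2
      · push Not at hprim
        obtain ⟨X, hX, hX'⟩ := hprim
        exact imprimitive ih hX (fun h => hX' (Or.inl h)) (fun h => hX' (Or.inr h))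
    · exact intransitive ih htr

/-- The bound for a faithful action. -/
theorem _root_.Cfsg.Lib.Solv.ClassCount.card_le_of_perm {A Ω : Type*} [Group A] [Finite A] [Group.IsSolvable A] [Finite Ω]
    (f : A →* Equiv.Perm Ω) (hf : Function.Injective f) : Nat.card A ≤ ob (Nat.card Ω) :=
  (Nat.card_congr (MonoidHom.ofInjective hf).toEquiv).trans_le (OB.transfer f (ob_all _))

end Order

end Cfsg.Lib.Solv.ClassCount
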