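import Cfsg.Agent.Lib.Solv.ClassCount.Form
import Cfsg.Agent.Lib.Solv.ClassCount.Basic
import Cfsg.Agent.Lib.SolvBase.Main

/-!
# Isometry groups of planes, and the bound from three vectors with trivial common stabiliser
-/

set_option autoImplicit false
set_option linter.style.haveILetI false
set_option linter.unusedSectionVars false

namespace Cfsg.Lib.Solv.ClassCount

open Cfsg.Lib.OddBase

variable {A W C : Type} [Group A] [Finite A] [AddCommGroup W] [Finite W] [DistribMulAction A W]
  [FaithfulSMul A W] [AddCommGroup C] [Finite C] (B : Form W C)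

theorem sq_le_three_pow : ∀ n : ℕ, 5 ≤ n → n * n + 1 ≤ 3 ^ (n - 1) := by
  intro n hn
  induction n, hn using Nat.le_induction with
  | base => norm_num
  | succ n hn ih =>
    obtain ⟨m, rfl⟩ : ∃ m, n = m + 1 := ⟨n - 1, by omega⟩
    simp only [Nat.add_sub_cancel] at ih ⊢
    rw [pow_succ]
    nlinarith

/-- The isometry groups of a plane. -/
theorem subClassLE_plane {p : ℕ} [hp : Fact p.Prime] (hW : ∀ x : W, p • x = 0) (hcard : Nat.card W = p * p)
    (hinv : ∀ (a : A) x y, B.form (a • x) (a • y) = B.form x y) : SubClassLE A (3 ^ (p - 1)) := by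
  classical
  have hp2 := hp.out.two_le
  haveI : Nontrivial W := Finite.one_lt_card_iff_nontrivial.1 (by rw [hcard]; nlinarith)
  obtain ⟨x, hx⟩ := exists_ne (0 : W)
  obtain ⟨y, hxy⟩ := B.exists_ne hx
  have span : ∀ {u v : W}, B.form u v ≠ 0 → ∀ w, ∃ i j : ℤ, w = i • u + j • v := fun {u v} huv w => by
    obtain ⟨H, -, -, hH, -, hspan⟩ := B.exists_plane hW huv
    refine hspan w ?_
    rw [AddSubgroup.eq_top_of_card_eq H (hH.trans hcard.symm)]
    trivial
  have hco : addOrderOf (B.form x y) = p :=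
    addOrderOf_eq_prime (by rw [← map_nsmul, hW, map_zero]) hxy
  set S : Set A := {a | ∀ v : W, ∃ j : ℤ, a • v = j • v} with hSdef
  have hS : ∀ a ∈ S, (∀ v : W, a • v = v) ∨ (∀ v : W, a • v = -v) := by
    intro a ha
    obtain ⟨i, hi⟩ := ha x
    obtain ⟨j, hj⟩ := ha y
    obtain ⟨k, hk⟩ := ha (x + y)
    rw [smul_add, hi, hj, zsmul_add] at hk
    have h1 := congrArg (B.form x) hk
    simp only [map_add, map_zsmul, B.alt, zsmul_zero, zero_add] at h1
    have h2 := congrArg (fun w => B.form w y) hk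
    simp only [map_add, map_zsmul, AddMonoidHom.add_apply, AddMonoidHom.zsmul_apply, B.alt, zsmul_zero,
      add_zero] at h2
    rw [zsmul_eq_zsmul_iff_modEq, hco] at h1 h2
    have hijp : i ≡ j [ZMOD p] := h2.trans h1.symm
    have hall : ∀ v : W, a • v = i • v := fun v => by
      obtain ⟨s, t, rfl⟩ := span hxy v
      have hjy : j • y = i • y := by
        obtain ⟨e, he⟩ := (Int.modEq_iff_dvd.1 hijp)
        rw [← sub_eq_zero, ← sub_smul, he, mul_comm, mul_zsmul, natCast_zsmul, hW, zsmul_zero]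
      rw [smul_add, smul_comm, hi, smul_comm a t y, hj, hjy, zsmul_add, smul_comm s i x, smul_comm t i y]
    have hii := hinv a x y
    rw [hall, hall, map_zsmul, map_zsmul, AddMonoidHom.zsmul_apply, ← mul_zsmul] at hii
    have hii' : i * i ≡ 1 [ZMOD p] := by
      rw [← hco, ← zsmul_eq_zsmul_iff_modEq, one_zsmul]; exact hii
    have hpm : (p : ℤ) ∣ (i - 1) * (i + 1) := by
      have := Int.modEq_iff_dvd.1 hii'.symm
      have e : (i - 1) * (i + 1) = i * i - 1 := by ring
      rwa [e]
    rcases (Nat.prime_iff_prime_int.1 hp.out).dvd_or_dvd hpm with ⟨e, he⟩ | ⟨e, he⟩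
    · refine Or.inl fun v => ?_
      rw [hall, show i = 1 + (p : ℤ) * e by omega, add_zsmul, one_zsmul, mul_comm, mul_zsmul, natCast_zsmul, hW,
        zsmul_zero, add_zero]
    · refine Or.inr fun v => ?_
      rw [hall, show i = -1 + (p : ℤ) * e by omega, add_zsmul, neg_one_zsmul, mul_comm, mul_zsmul,
        natCast_zsmul, hW, zsmul_zero, add_zero]
  have hSB : Nat.card S ≤ 2 ∧ (p = 2 → Nat.card S ≤ 1) := by
    constructor
    · refine le_trans (Nat.card_le_card_of_injective (fun a : S => decide (∀ v : W, (a : A) • v = v)) ?_)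
        (le_of_eq (by simp))
      intro a b hab
      simp only [decide_eq_decide] at hab
      refine Subtype.ext (eq_of_smul_eq_smul fun v : W => ?_)
      by_cases h : ∀ v : W, (a : A) • v = v
      · rw [h v, (hab.1 h) v]
      · rw [(hS a a.2).resolve_left h v, (hS b b.2).resolve_left (fun h' => h (hab.2 h')) v]
    · intro h2
      refine Finite.card_le_one_iff_subsingleton.2 ⟨fun a b => Subtype.ext (eq_of_smul_eq_smul fun v : W => ?_)⟩
      have hneg : ∀ w : W, -w = w := fun w => by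
        rw [neg_eq_iff_add_eq_zero, ← two_nsmul]
        subst h2
        exact hW w
      have h1 : ∀ c ∈ S, ∀ w : W, c • w = w := fun c hc w => by
        rcases hS c hc with h | h
        · exact h w
        · rw [h w, hneg]
      rw [h1 a a.2, h1 b b.2]
  intro X
  have hC : ∀ a : X, a ∉ ((↑) : X → A) ⁻¹' S → Nat.card (Subgroup.centralizer ({a} : Set X)) ≤ p * p - 1 := by
    intro a ha
    obtain ⟨v, hv⟩ : ∃ v : W, ∀ j : ℤ, (a : A) • v ≠ j • v := by
      by_contra h
      push Not at h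
      exact ha h
    have hv0 : v ≠ 0 := fun h => hv 0 (by rw [h, smul_zero, zsmul_zero])
    have hne : B.form v ((a : A) • v) ≠ 0 := fun h0 => by
      obtain ⟨z, hz⟩ := B.exists_ne hv0
      obtain ⟨i, j, hij⟩ := span hz ((a : A) • v)
      rw [hij, map_add, map_zsmul, map_zsmul, B.alt, zsmul_zero, zero_add] at h0
      rw [← addOrderOf_dvd_iff_zsmul_eq_zero,
        addOrderOf_eq_prime (by rw [← map_nsmul, hW, map_zero]) hz] at h0
      obtain ⟨e, rfl⟩ := h0
      refine hv i (by rw [hij, mul_comm, mul_zsmul, natCast_zsmul, hW, zsmul_zero, add_zero])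
    rw [← hcard]
    haveI := Fintype.ofFinite W
    rw [show Nat.card W - 1 = Nat.card {w : W // w ≠ 0} by
      rw [Nat.card_eq_fintype_card, Nat.card_eq_fintype_card, Fintype.card_subtype_compl,
        Fintype.card_subtype_eq]]
    refine Nat.card_le_card_of_injective
      (fun c => (⟨((c : X) : A) • v, smul_ne_zero_iff_ne _ |>.2 hv0⟩ : {w : W // w ≠ 0})) fun c d hcd => ?_
    have h1 : ((c : X) : A) • v = ((d : X) : A) • v := congrArg Subtype.val hcd
    have hcm : ∀ e : Subgroup.centralizer ({a} : Set X), ((e : X) : A) * a = (a : A) * (e : X) := fun e =>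
      congrArg Subtype.val (Subgroup.mem_centralizer_singleton_iff.1 e.2)
    refine Subtype.ext (Subtype.ext (eq_of_smul_eq_smul fun w : W => ?_))
    obtain ⟨i, j, rfl⟩ := span hne w
    rw [smul_add, smul_add, smul_comm ((c : X) : A) i v, smul_comm ((d : X) : A) i v, h1,
      smul_comm ((c : X) : A) j, smul_comm ((d : X) : A) j, smul_smul, smul_smul, hcm c, hcm d, mul_smul,
      mul_smul, h1]
  have h1 : (1 : X) ∈ ((↑) : X → A) ⁻¹' S := fun v => ⟨1, by simp⟩
  have hSX : Nat.card (((↑) : X → A) ⁻¹' S) ≤ Nat.card S :=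
    Nat.card_le_card_of_injective (fun a => (⟨((a : X) : A), a.2⟩ : S))
      fun a b h => Subtype.ext (Subtype.ext (congrArg (fun z : S => (z : A)) h))
  rcases card_classes_lt _ h1 hC with h | h
  · rcases le_or_gt 5 p with h5 | h5
    · have := sq_le_three_pow p h5
      omega
    · interval_cases p
      · have := hSB.2 rfl; omega
      · omega
      · exact absurd hp.out (by norm_num)
  · exfalso
    have : 4 ≤ p * p := by nlinarith
    omega

theorem pow_six_le : ∀ q : ℕ, 16 ≤ q → q ^ 6 ≤ 4 * 3 ^ (q - 1) := by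
  intro q hq
  induction q, hq using Nat.le_induction with
  | base => norm_num
  | succ q hq ih =>
    obtain ⟨m, rfl⟩ : ∃ m, q = m + 1 := ⟨q - 1, by omega⟩
    simp only [Nat.add_sub_cancel] at ih ⊢
    rw [pow_succ (3 : ℕ)]
    have h : (m + 1 + 1) ^ 6 * 2 ^ 6 ≤ (m + 1) ^ 6 * 3 * 2 ^ 6 := by
      calc (m + 1 + 1) ^ 6 * 2 ^ 6 = ((m + 2) * 2) ^ 6 := by ring
        _ ≤ (17 * (m + 1) / 8) ^ 6 := Nat.pow_le_pow_left (by omega) 6
        _ ≤ ((m + 1) * 17) ^ 6 / 8 ^ 6 := by
          rw [Nat.le_div_iff_mul_le (by norm_num), ← mul_pow]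
          exact Nat.pow_le_pow_left (by rw [mul_comm (m + 1)]; exact Nat.div_mul_le_self _ _) 6
        _ ≤ _ := by rw [mul_pow]; omega
    omega

/-- The bound from a base of size three. -/
theorem card_le_of_irreducible [Group.IsSolvable A] {p : ℕ} [hp : Fact p.Prime] (hW : ∀ x : W, p • x = 0)
    [Nontrivial W] (hirr : Irreducible' A W) (hinv : ∀ (a : A) x y, B.form (a • x) (a • y) = B.form x y) :
    Nat.card A * (p * p) ≤ Nat.card W * (Nat.card W * Nat.card W) := by
  classical
  haveI := Fintype.ofFinite W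
  obtain ⟨u₁, v₂, v₃, h⟩ := Cfsg.Lib.SolvBase.exists_triple (A := A) (V := W)
    (Cfsg.Lib.SolvBase.completelyReducible_of_irreducible hirr)
  obtain ⟨v₁, hv₁, hstab⟩ : ∃ v₁ : W, v₁ ≠ 0 ∧ ∀ a : A, a • v₁ = v₁ → a • v₂ = v₂ → a • v₃ = v₃ → a = 1 := by
    rcases eq_or_ne u₁ 0 with h0 | h0
    · obtain ⟨w, hw⟩ := exists_ne (0 : W)
      exact ⟨w, hw, fun a _ h2 h3 => h a (by rw [h0, smul_zero]) h2 h3⟩
    · exact ⟨u₁, h0, h⟩
  let T : Type := Σ x : {x : W // x ≠ 0},
    {y : W // B.form (x : W) y = B.form v₁ v₂} × {y : W // B.form (x : W) y = B.form v₁ v₃}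
  have hT : Nat.card A ≤ Nat.card T := by
    refine Nat.card_le_card_of_injective (fun a : A => (⟨⟨a • v₁, smul_ne_zero_iff_ne _ |>.2 hv₁⟩,
      ⟨a • v₂, hinv a v₁ v₂⟩, ⟨a • v₃, hinv a v₁ v₃⟩⟩ : T)) fun a b hab => ?_
    have e1 : a • v₁ = b • v₁ := congrArg (fun z : T => (z.1 : W)) hab
    have e2 : a • v₂ = b • v₂ := congrArg (fun z : T => (z.2.1 : W)) hab
    have e3 : a • v₃ = b • v₃ := congrArg (fun z : T => (z.2.2 : W)) hab
    exact (inv_mul_eq_one.1 (hstab (b⁻¹ * a) (by rw [mul_smul, e1, inv_smul_smul])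
      (by rw [mul_smul, e2, inv_smul_smul]) (by rw [mul_smul, e3, inv_smul_smul]))).symm
  calc Nat.card A * (p * p) ≤ Nat.card T * (p * p) := Nat.mul_le_mul_right _ hT
    _ = ∑ x : {x : W // x ≠ 0}, Nat.card {y : W // B.form (x : W) y = B.form v₁ v₂} * p *
          (Nat.card {y : W // B.form (x : W) y = B.form v₁ v₃} * p) := by
      rw [Nat.card_sigma, Finset.sum_mul]
      exact Finset.sum_congr rfl fun x _ => by rw [Nat.card_prod]; ring
    _ ≤ ∑ _x : {x : W // x ≠ 0}, Nat.card W * Nat.card W := Finset.sum_le_sum fun x _ =>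
      Nat.mul_le_mul (B.card_level_mul_le hW x.2 _) (B.card_level_mul_le hW x.2 _)
    _ ≤ _ := by
      rw [Finset.sum_const, smul_eq_mul, Finset.card_univ, ← Nat.card_eq_fintype_card]
      exact Nat.mul_le_mul_right _ (Nat.card_le_card_of_injective _ Subtype.val_injective)

/-- The irreducible case in large order. -/
theorem subClassLE_large [Group.IsSolvable A] {p : ℕ} [hp : Fact p.Prime] (hW : ∀ x : W, p • x = 0)
    [Nontrivial W] (hirr : Irreducible' A W) (hinv : ∀ (a : A) x y, B.form (a • x) (a • y) = B.form x y)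
    {q : ℕ} (hq : Nat.card W = q * q) (h16 : 16 ≤ q) : SubClassLE A (3 ^ (q - 1)) := by
  refine SubClassLE.of_card ?_
  have h := card_le_of_irreducible B hW hirr hinv
  rw [hq] at h
  have h4 : 4 ≤ p * p := by nlinarith [hp.out.two_le]
  have h6 := pow_six_le q h16
  have h7 : q * q * (q * q * (q * q)) = q ^ 6 := by ring
  rw [h7] at h
  have : Nat.card A * 4 ≤ Nat.card A * (p * p) := Nat.mul_le_mul_left _ h4
  omega

end Cfsg.Lib.Solv.ClassCount
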