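import Cfsg.Agent.Lib.Solv.ClassCount.Nine

/-!
# Class numbers of solvable groups preserving a nondegenerate alternating form
-/

set_option autoImplicit false
set_option linter.style.haveILetI false
set_option linter.unusedSectionVars false

namespace Cfsg.Lib.Solv.ClassCount

open Cfsg.Lib.OddBase MulAction

theorem exponents_le {a b : ℕ} (ha : 2 ≤ a) (hb : 2 ≤ b) :
    3 ^ (a - 1) * 3 ^ (b - 1) ≤ 3 ^ (a * b - 1) := by
  rw [← pow_add]
  refine Nat.pow_le_pow_right (by norm_num) ?_
  have : a + b ≤ a * b := by nlinarith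
  omega

section

variable {A W C : Type} [Group A] [Finite A] [AddCommGroup W] [Finite W] [DistribMulAction A W]
  [FaithfulSMul A W] [AddCommGroup C] [Finite C] (B : Form W C)

/-- The irreducible case. -/
theorem subClassLE_irreducible [Group.IsSolvable A] [Nontrivial W] (hC : Thin C) (hirr : Irreducible' A W)
    (hinv : ∀ (a : A) x y, B.form (a • x) (a • y) = B.form x y) :
    ∃ e : ℕ, Nat.card W = e * e ∧ SubClassLE A (3 ^ (e - 1)) := by
  obtain ⟨p, hp, hW⟩ := Cfsg.Lib.SolvBase.exists_prime_nsmul hirr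
  haveI := Fact.mk hp
  obtain ⟨n, hn⟩ := B.card_eq_sq hC _ (⊤ : AddSubgroup W) rfl
    (eq_bot_iff.2 fun x hx => AddSubgroup.mem_bot.2 (B.nondeg x fun y => B.swap_zero (hx.2 y trivial))) hW
  rw [AddSubgroup.card_top] at hn
  refine ⟨p ^ n, hn, ?_⟩
  have hone := Finite.one_lt_card (α := W)
  rcases n with _ | _ | n
  · simp at hn; omega
  · simpa using subClassLE_plane B hW (by simpa using hn) hinv
  rcases le_or_gt 16 (p ^ (n + 1 + 1)) with h16 | h16
  · exact subClassLE_large B hW hirr hinv hn h16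
  have hp3 : p ≤ 3 := by
    by_contra h
    have h1 : p ^ 2 ≤ p ^ (n + 1 + 1) := Nat.pow_le_pow_right hp.pos (by omega)
    have h2 : 4 ^ 2 ≤ p ^ 2 := Nat.pow_le_pow_left (by omega) 2
    omega
  have hn2 : n ≤ 1 := by
    by_contra h
    have h1 : 2 ^ 4 ≤ p ^ (n + 1 + 1) :=
      (Nat.pow_le_pow_left hp.two_le 4).trans (Nat.pow_le_pow_right hp.pos (by omega))
    omega
  have := hp.two_le
  interval_cases p <;> interval_cases n
  · exact (subClassLE_four B hC hW (by simpa using hn) hinv).mono (by norm_num)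
  · exact (subClassLE_eight B hC hW (by simpa using hn) hirr hinv).mono (by norm_num)
  · exact (subClassLE_nine B hC hW (by simpa using hn) hinv).mono (by norm_num)
  · norm_num at h16

end

/-- The class bound. -/
theorem subClassLE_symplectic : ∀ (N : ℕ) (A W C : Type) [Group A] [Finite A] [Group.IsSolvable A]
    [AddCommGroup W] [Finite W] [DistribMulAction A W] [FaithfulSMul A W] [AddCommGroup C] [Finite C]
    (B : Form W C), Thin C → Nat.card W = N → (∀ (a : A) x y, B.form (a • x) (a • y) = B.form x y) →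
    (∀ U : AddSubgroup W, (∀ a : A, ∀ u ∈ U, a • u ∈ U) → U ⊓ B.perp U = ⊥) →
    ∃ e : ℕ, N = e * e ∧ SubClassLE A (3 ^ (e - 1)) := by
  intro N
  induction N using Nat.strong_induction_on with
  | _ N ih =>
    intro A W C _ _ _ _ _ _ _ _ _ B hC hN hinv hnd
    rcases subsingleton_or_nontrivial W with hW | hW
    · refine ⟨1, by rw [← hN, Nat.card_unique], SubClassLE.of_card ?_⟩
      haveI : Subsingleton A := ⟨fun a b => eq_of_smul_eq_smul fun x : W => Subsingleton.elim _ _⟩
      exact (Finite.card_le_one_iff_subsingleton.2 ‹_›).trans (by norm_num)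
    by_cases hirr : Irreducible' A W
    · obtain ⟨e, he, h⟩ := subClassLE_irreducible B hC hirr hinv
      exact ⟨e, hN ▸ he, h⟩
    simp only [Irreducible', not_forall, not_or] at hirr
    obtain ⟨U, hU, hUb, hUt⟩ := hirr
    have hUd := hnd U hU
    set P := B.perp U with hP
    have hPinv : ∀ a : A, ∀ x ∈ P, a • x ∈ P := fun a x hx u hu => by
      rw [← hinv a⁻¹, inv_smul_smul]
      exact hx _ (hU a⁻¹ u hu)
    have hPd : P ⊓ B.perp P = ⊥ := B.perp_inf_perp hC hUd
    have hcard := B.card_perp hC U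
    have hU1 : 1 < Nat.card U := Finite.one_lt_card_iff_nontrivial.2 ((AddSubgroup.nontrivial_iff_ne_bot U).2 hUb)
    have hUlt : Nat.card U < N := by
      rw [← hN]
      exact lt_of_le_of_ne (AddSubgroup.card_le_card_addGroup U) fun h => hUt (AddSubgroup.eq_top_of_card_eq U h)
    have hP1 : 1 < Nat.card P := by
      by_contra h
      have h1 : Nat.card P = 1 := by have := Nat.card_pos (α := P); omega
      rw [h1, mul_one, hN] at hcard
      omega
    have hPlt : Nat.card P < N := by
      rw [← hN, ← hcard]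
      exact (Nat.lt_mul_iff_one_lt_left (by omega)).2 hU1
    have key : ∀ S : AddSubgroup W, (hS : ∀ a : A, ∀ u ∈ S, a • u ∈ S) → S ⊓ B.perp S = ⊥ → Nat.card S < N →
        ∃ e : ℕ, Nat.card S = e * e ∧
          (letI := subAct (A := A) S hS; SubClassLE (toPermHom A S).range (3 ^ (e - 1))) := by
      intro S hS hSd hlt
      letI := subAct (A := A) S hS
      letI := rangeAct A S
      haveI : Group.IsSolvable (toPermHom A S).range :=
        Group.isSolvable_of_surjective (toPermHom A S).rangeRestrict_surjective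
      refine ih _ hlt (toPermHom A S).range S C (B.restrict hC hSd) hC rfl ?_ ?_
      · rintro ⟨_, a, rfl⟩ x y
        exact hinv a (x : W) (y : W)
      · intro V hV
        have h := hnd (V.map S.subtype) fun a u hu => by
          obtain ⟨v, hv, rfl⟩ := hu
          exact ⟨_, hV ⟨_, a, rfl⟩ v hv, rfl⟩
        refine eq_bot_iff.2 fun v hv => AddSubgroup.mem_bot.2 (Subtype.ext ?_)
        refine AddSubgroup.mem_bot.1 (h ▸ AddSubgroup.mem_inf.2 ⟨⟨v, hv.1, rfl⟩, ?_⟩ : (v : W) ∈ (⊥ : AddSubgroup W))
        rintro _ ⟨t, ht, rfl⟩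
        exact hv.2 t ht
    obtain ⟨e₁, he₁, h₁⟩ := key U hU hUd hUlt
    obtain ⟨e₂, he₂, h₂⟩ := key P hPinv hPd hPlt
    refine ⟨e₁ * e₂, by rw [← hN, ← hcard, he₁, he₂]; ring, ?_⟩
    letI := subAct (A := A) U hU
    letI := subAct (A := A) P hPinv
    let f := (toPermHom A U).rangeRestrict.prod (toPermHom A P).rangeRestrict
    refine (SubClassLE.of_injective f (fun a b hab => eq_of_smul_eq_smul fun x : W => ?_)
      (SubClassLE.prod h₁ h₂)).mono (exponents_le ?_ ?_)
    · obtain ⟨u, hu, v, hv, rfl⟩ := AddSubgroup.mem_sup.1 (B.sup_perp hC hUd ▸ AddSubgroup.mem_top x)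
      rw [smul_add, smul_add]
      congr 1
      · exact congrArg Subtype.val (Equiv.congr_fun (congrArg Subtype.val (congrArg Prod.fst hab)) ⟨u, hu⟩)
      · exact congrArg Subtype.val (Equiv.congr_fun (congrArg Subtype.val (congrArg Prod.snd hab)) ⟨v, hv⟩)
    · by_contra h
      interval_cases e₁ <;> omega
    · by_contra h
      interval_cases e₂ <;> omega

end Cfsg.Lib.Solv.ClassCount
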