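import Cfsg.Agent.Lib.Solv.ClassCount.Symp
import Cfsg.Agent.Lib.Solv.ClassCount.PermOrder

/-!
# Orders of solvable groups preserving a nondegenerate alternating form
-/

set_option autoImplicit false
set_option linter.style.haveILetI false
set_option linter.unusedSectionVars false

namespace Cfsg.Lib.Solv.ClassCount

open Cfsg.Lib.OddBase MulAction

/-- The bound for solvable groups preserving a form on a space of order `e * e`. -/
def gb (e : ℕ) : ℕ :=
  if e ≤ 7 then [1, 1, 6, 24, 72, 120, 144, 336].getD e 0 else e ^ 6 / 4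

theorem four_dvd_gb {a : ℕ} (ha : 2 ≤ a) : gb a * 4 ≤ a ^ 6 := by
  rcases le_or_gt a 7 with h | h
  · interval_cases a <;> decide
  · rw [gb, if_neg (by omega)]
    exact Nat.div_mul_le_self _ _

theorem gb_mul_le {a b : ℕ} (ha : 2 ≤ a) (hb : 2 ≤ b) : gb a * gb b ≤ gb (a * b) := by
  rcases le_or_gt (a * b) 7 with h | h
  · have : a ≤ 3 := by nlinarith
    have : b ≤ 3 := by nlinarith
    interval_cases a <;> interval_cases b <;> first | omega | decide
  · rw [show gb (a * b) = (a * b) ^ 6 / 4 from if_neg (by omega), Nat.le_div_iff_mul_le (by norm_num)]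
    calc gb a * gb b * 4 ≤ gb a * 4 * (gb b * 4) := by nlinarith [Nat.zero_le (gb a * gb b)]
      _ ≤ a ^ 6 * b ^ 6 := Nat.mul_le_mul (four_dvd_gb ha) (four_dvd_gb hb)
      _ = _ := by rw [mul_pow]

theorem plane_le_gb {p : ℕ} (hp : 2 ≤ p) (hprime : p.Prime) : (p * p - 1) * p ≤ gb p := by
  rcases le_or_gt p 7 with h | h
  · interval_cases p <;> first | decide | (exfalso; revert hprime; norm_num)
  · rw [gb, if_neg (by omega), Nat.le_div_iff_mul_le (by norm_num)]
    calc (p * p - 1) * p * 4 ≤ p * p * p * 4 := by gcongr; exact Nat.sub_le _ _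
      _ ≤ p * p * p * (p * p * p) := Nat.mul_le_mul_left _ (by nlinarith)
      _ = _ := by ring

section

variable {A W C : Type} [Group A] [Finite A] [AddCommGroup W] [Finite W] [DistribMulAction A W]
  [FaithfulSMul A W] [AddCommGroup C] [Finite C] (B : Form W C)

/-- The order of the isometry group of a plane. -/
theorem card_plane_le {p : ℕ} [hp : Fact p.Prime] (hW : ∀ x : W, p • x = 0) (hcard : Nat.card W = p * p)
    (hinv : ∀ (a : A) x y, B.form (a • x) (a • y) = B.form x y) : Nat.card A ≤ (p * p - 1) * p := by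
  classical
  haveI : Nontrivial W := Finite.one_lt_card_iff_nontrivial.1 (by rw [hcard]; nlinarith [hp.out.two_le])
  obtain ⟨x, hx⟩ := exists_ne (0 : W)
  obtain ⟨y, hxy⟩ := B.exists_ne hx
  haveI := Fintype.ofFinite W
  have hne : Nat.card {z : W // z ≠ 0} = p * p - 1 := by
    rw [← hcard, Nat.card_eq_fintype_card, Fintype.card_subtype_compl, Fintype.card_subtype_eq,
      Nat.card_eq_fintype_card]
  set A₁ := stabilizer A x
  have c1 : Nat.card A ≤ (p * p - 1) * Nat.card A₁ := by
    rw [← hne, ← Subgroup.card_top]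
    refine card_le_fibre ⊤ A₁ (fun a => (⟨(a : A) • x, smul_ne_zero_iff_ne _ |>.2 hx⟩ : {z : W // z ≠ 0}))
      fun a c h => ?_
    have e : (a : A) • x = (c : A) • x := congrArg Subtype.val h
    rw [mem_stabilizer_iff, mul_smul, ← e, inv_smul_smul]
  refine c1.trans (Nat.mul_le_mul_left _ ?_)
  have hl := B.card_level_mul_le hW hx (B.form x y)
  rw [hcard] at hl
  refine le_trans ?_ (Nat.le_of_mul_le_mul_right hl hp.out.pos)
  refine Nat.card_le_card_of_injective (fun a => (⟨(a : A) • y, by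
      conv_lhs => rw [← (a.2 : (a : A) • x = x)]
      exact hinv _ _ _⟩ : {z : W // B.form x z = B.form x y})) fun a c h => ?_
  have e : (a : A) • y = (c : A) • y := congrArg Subtype.val h
  refine Subtype.ext (eq_of_smul_eq_smul fun w : W => ?_)
  obtain ⟨H, -, -, hH, -, hspan⟩ := B.exists_plane hW hxy
  obtain ⟨i, j, rfl⟩ := hspan w (by rw [AddSubgroup.eq_top_of_card_eq H (hH.trans hcard.symm)]; trivial)
  rw [smul_add, smul_add, smul_comm (a : A) i x, smul_comm (c : A) i x, smul_comm (a : A) j y,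
    smul_comm (c : A) j y, e, show (a : A) • x = x from a.2, show (c : A) • x = x from c.2]

/-- The irreducible case. -/
theorem card_le_gb_irreducible [Group.IsSolvable A] [Nontrivial W] (hC : Thin C) (hirr : Irreducible' A W)
    (hinv : ∀ (a : A) x y, B.form (a • x) (a • y) = B.form x y) :
    ∃ e : ℕ, Nat.card W = e * e ∧ Nat.card A ≤ gb e := by
  obtain ⟨p, hp, hW⟩ := Cfsg.Lib.SolvBase.exists_prime_nsmul hirr
  haveI := Fact.mk hp
  obtain ⟨n, hn⟩ := B.card_eq_sq hC _ (⊤ : AddSubgroup W) rfl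
    (eq_bot_iff.2 fun x hx => AddSubgroup.mem_bot.2 (B.nondeg x fun y => B.swap_zero (hx.2 y trivial))) hW
  rw [AddSubgroup.card_top] at hn
  refine ⟨p ^ n, hn, ?_⟩
  have hone := Finite.one_lt_card (α := W)
  rcases n with _ | _ | n
  · simp at hn; omega
  · simpa using (card_plane_le B hW (by simpa using hn) hinv).trans (plane_le_gb hp.two_le hp)
  rcases le_or_gt 8 (p ^ (n + 1 + 1)) with h8 | h8
  · rw [gb, if_neg (by omega), Nat.le_div_iff_mul_le (by norm_num)]
    have h := card_le_of_irreducible B hW hirr hinv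
    rw [hn] at h
    calc Nat.card A * 4 ≤ Nat.card A * (p * p) := Nat.mul_le_mul_left _ (by nlinarith [hp.two_le])
      _ ≤ _ := h
      _ = _ := by ring
  · have hp2 : p = 2 := by
      by_contra h
      have h3 := hp.two_le
      have : 3 ^ 2 ≤ p ^ (n + 1 + 1) :=
        (Nat.pow_le_pow_left (by omega) 2).trans (Nat.pow_le_pow_right hp.pos (by omega))
      omega
    subst hp2
    have hn0 : n = 0 := by
      by_contra h
      have : 2 ^ 3 ≤ 2 ^ (n + 1 + 1) := Nat.pow_le_pow_right two_pos (by omega)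
      omega
    subst hn0
    obtain ⟨Q, _, f, hf, hQ⟩ := exists_six_embedding B hC hW (by simpa using hn) hinv
    refine (card_le_of_perm f hf).trans ?_
    generalize Nat.card Q = k at hQ
    interval_cases k <;> decide

end

/-- An irreducible solvable linear group is small against the bound. -/
theorem card_le_gb_linear {A W : Type} [Group A] [Finite A] [Group.IsSolvable A] [AddCommGroup W] [Finite W]
    [Nontrivial W] [DistribMulAction A W] [FaithfulSMul A W] (hirr : Irreducible' A W) :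
    Nat.card A ≤ gb (Nat.card W) := by
  classical
  haveI := Fintype.ofFinite W
  have h0 : Nat.card {x : W // x ≠ 0} = Nat.card W - 1 := by
    rw [Nat.card_eq_fintype_card, Fintype.card_subtype_compl, Fintype.card_subtype_eq, Nat.card_eq_fintype_card]
  have h1 : Nat.card A ≤ (Nat.card W - 1).factorial := by
    rw [← h0, ← Nat.card_perm]
    refine Nat.card_le_card_of_injective (fun a : A => (MulAction.toPerm a).subtypePerm fun x => by
      simp [smul_ne_zero_iff_ne]) fun a c h => eq_of_smul_eq_smul fun x : W => ?_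
    rcases eq_or_ne x 0 with rfl | hx
    · simp
    · exact congrArg Subtype.val (Equiv.congr_fun h ⟨x, hx⟩)
  obtain ⟨u₁, v₂, v₃, h⟩ := Cfsg.Lib.SolvBase.exists_triple (A := A) (V := W)
    (Cfsg.Lib.SolvBase.completelyReducible_of_irreducible hirr)
  obtain ⟨v₁, hv₁, hstab⟩ : ∃ v₁ : W, v₁ ≠ 0 ∧ ∀ a : A, a • v₁ = v₁ → a • v₂ = v₂ → a • v₃ = v₃ → a = 1 := by
    rcases eq_or_ne u₁ 0 with h0 | h0
    · obtain ⟨w, hw⟩ := exists_ne (0 : W)
      exact ⟨w, hw, fun a _ h2 h3 => h a (by rw [h0, smul_zero]) h2 h3⟩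
    · exact ⟨u₁, h0, h⟩
  have h2 : Nat.card A ≤ (Nat.card W - 1) * (Nat.card W * Nat.card W) := by
    rw [← h0, ← Nat.card_prod W W, ← Nat.card_prod]
    refine Nat.card_le_card_of_injective (fun a : A => ((⟨a • v₁, smul_ne_zero_iff_ne _ |>.2 hv₁⟩ :
      {x : W // x ≠ 0}), (a • v₂, a • v₃))) fun a b hab => ?_
    simp only [Prod.mk.injEq, Subtype.mk.injEq] at hab
    exact (inv_mul_eq_one.1 (hstab (b⁻¹ * a) (by rw [mul_smul, hab.1, inv_smul_smul])
      (by rw [mul_smul, hab.2.1, inv_smul_smul]) (by rw [mul_smul, hab.2.2, inv_smul_smul]))).symm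
  have hone := Finite.one_lt_card (α := W)
  generalize Nat.card W = e at h1 h2 hone
  rcases le_or_gt e 7 with he | he
  · interval_cases e <;> simp [gb, Nat.factorial] at h1 h2 ⊢ <;> omega
  · rw [gb, if_neg (by omega), Nat.le_div_iff_mul_le (by norm_num)]
    calc Nat.card A * 4 ≤ e * e * e * 4 := by
          refine Nat.mul_le_mul_right _ (h2.trans ?_)
          rw [mul_assoc e e e]
          exact Nat.mul_le_mul_right _ (Nat.sub_le _ _)
      _ ≤ e * e * e * (e * e * e) := Nat.mul_le_mul_left _ (by nlinarith [Nat.mul_le_mul he.le he.le])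
      _ = _ := by ring

/-- The order bound. -/
theorem card_le_gb : ∀ (N : ℕ) (A W C : Type) [Group A] [Finite A] [Group.IsSolvable A]
    [AddCommGroup W] [Finite W] [DistribMulAction A W] [FaithfulSMul A W] [AddCommGroup C] [Finite C]
    (B : Form W C), Thin C → Nat.card W = N → (∀ (a : A) x y, B.form (a • x) (a • y) = B.form x y) →
    CompletelyReducible A W →
    ∃ e : ℕ, N = e * e ∧ Nat.card A ≤ gb e := by
  intro N
  induction N using Nat.strong_induction_on with
  | _ N ih =>
    intro A W C _ _ _ _ _ _ _ _ _ B hC hN hinv hcr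
    rcases subsingleton_or_nontrivial W with hW | hW
    · refine ⟨1, by rw [← hN, Nat.card_unique], ?_⟩
      haveI : Subsingleton A := ⟨fun a b => eq_of_smul_eq_smul fun x : W => Subsingleton.elim _ _⟩
      exact (Finite.card_le_one_iff_subsingleton.2 ‹_›).trans (by decide)
    by_cases hirr : Irreducible' A W
    · obtain ⟨e, he, h⟩ := card_le_gb_irreducible B hC hirr hinv
      exact ⟨e, hN ▸ he, h⟩
    have split : ∀ U : AddSubgroup W, (∀ a : A, ∀ u ∈ U, a • u ∈ U) → U ⊓ B.perp U = ⊥ → U ≠ ⊥ → U ≠ ⊤ →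
        ∃ e : ℕ, N = e * e ∧ Nat.card A ≤ gb e := by
      intro U hU hUd hUb hUt
      set P := B.perp U with hP
      have hPinv : ∀ a : A, ∀ x ∈ P, a • x ∈ P := fun a x hx u hu => by
        rw [← hinv a⁻¹, inv_smul_smul]
        exact hx _ (hU a⁻¹ u hu)
      have hPd : P ⊓ B.perp P = ⊥ := B.perp_inf_perp hC hUd
      have hcard := B.card_perp hC U
      have hU1 : 1 < Nat.card U := Finite.one_lt_card_iff_nontrivial.2 ((AddSubgroup.nontrivial_iff_ne_bot U).2 hUb)
      have hUlt : Nat.card U < N := by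
        rw [← hN]
        exact lt_of_le_of_ne (AddSubgroup.card_le_card_addGroup U) fun h => hUt (AddSubgroup.eq_top_of_card_eq U h)
      have hP1 : 1 < Nat.card P := by
        by_contra h
        have h1 : Nat.card P = 1 := by have := Nat.card_pos (α := P); omega
        rw [h1, mul_one, hN] at hcard
        omega
      have hPlt : Nat.card P < N := by
        rw [← hN, ← hcard]
        exact (Nat.lt_mul_iff_one_lt_left (by omega)).2 hU1
      have key : ∀ S : AddSubgroup W, (hS : ∀ a : A, ∀ u ∈ S, a • u ∈ S) → S ⊓ B.perp S = ⊥ → Nat.card S < N →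
          ∃ e : ℕ, Nat.card S = e * e ∧
            (letI := subAct (A := A) S hS; Nat.card (toPermHom A S).range ≤ gb e) := by
        intro S hS hSd hlt
        letI := subAct (A := A) S hS
        letI := rangeAct A S
        haveI : Group.IsSolvable (toPermHom A S).range :=
          Group.isSolvable_of_surjective (toPermHom A S).rangeRestrict_surjective
        refine ih _ hlt (toPermHom A S).range S C (B.restrict hC hSd) hC rfl ?_ ?_
        · rintro ⟨_, a, rfl⟩ x y
          exact hinv a (x : W) (y : W)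
        · intro V hV
          obtain ⟨X, hX, hXinf, hXsup⟩ := hcr (V.map S.subtype) fun a u hu => by
            obtain ⟨v, hv, rfl⟩ := hu
            exact ⟨_, hV ⟨_, a, rfl⟩ v hv, rfl⟩
          refine ⟨X.comap S.subtype, ?_, ?_, ?_⟩
          · rintro ⟨_, a, rfl⟩ w hw
            exact hX a _ hw
          · refine eq_bot_iff.2 fun v hv => AddSubgroup.mem_bot.2 (Subtype.ext (AddSubgroup.mem_bot.1
              (hXinf ▸ AddSubgroup.mem_inf.2 ⟨⟨v, hv.1, rfl⟩, hv.2⟩ : (v : W) ∈ (⊥ : AddSubgroup W))))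
          · refine eq_top_iff.2 fun v _ => ?_
            obtain ⟨_, ⟨y, hy, rfl⟩, x, hx, e⟩ := AddSubgroup.mem_sup.1 (hXsup ▸ AddSubgroup.mem_top (v : W))
            refine AddSubgroup.mem_sup.2 ⟨y, hy, v - y, ?_, add_sub_cancel y v⟩
            show ((v : W) - (y : W)) ∈ X
            rw [← e]
            simpa using hx
      obtain ⟨e₁, he₁, h₁⟩ := key U hU hUd hUlt
      obtain ⟨e₂, he₂, h₂⟩ := key P hPinv hPd hPlt
      refine ⟨e₁ * e₂, by rw [← hN, ← hcard, he₁, he₂]; ring, ?_⟩
      letI := subAct (A := A) U hU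
      letI := subAct (A := A) P hPinv
      let f := (toPermHom A U).rangeRestrict.prod (toPermHom A P).rangeRestrict
      refine (Nat.card_le_card_of_injective f (fun a b hab => eq_of_smul_eq_smul fun x : W => ?_)).trans
        ((Nat.card_prod _ _).trans_le ((Nat.mul_le_mul h₁ h₂).trans (gb_mul_le ?_ ?_)))
      · obtain ⟨u, hu, v, hv, rfl⟩ := AddSubgroup.mem_sup.1 (B.sup_perp hC hUd ▸ AddSubgroup.mem_top x)
        rw [smul_add, smul_add]
        congr 1
        · exact congrArg Subtype.val (Equiv.congr_fun (congrArg Subtype.val (congrArg Prod.fst hab)) ⟨u, hu⟩)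
        · exact congrArg Subtype.val (Equiv.congr_fun (congrArg Subtype.val (congrArg Prod.snd hab)) ⟨v, hv⟩)
      · by_contra h
        interval_cases e₁ <;> omega
      · by_contra h
        interval_cases e₂ <;> omega

    obtain ⟨U₀, hU₀⟩ := (Set.toFinite {U : AddSubgroup W | U ≠ ⊥ ∧ ∀ a : A, ∀ u ∈ U, a • u ∈ U}).exists_minimal
      ⟨⊤, top_ne_bot, fun _ _ _ => trivial⟩
    obtain ⟨hU₀b, hU₀i⟩ := hU₀.prop
    have hPinv₀ : ∀ a : A, ∀ x ∈ B.perp U₀, a • x ∈ B.perp U₀ := fun a x hx u hu => by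
      rw [← hinv a⁻¹, inv_smul_smul]
      exact hx _ (hU₀i a⁻¹ u hu)
    have hU₀t : U₀ ≠ ⊤ := fun h => hirr fun U hU => by
      rcases eq_or_ne U ⊥ with hb | hb
      · exact Or.inl hb
      · exact Or.inr (top_le_iff.1 (h ▸ hU₀.le_of_le ⟨hb, hU⟩ (h ▸ le_top)))
    rcases eq_or_ne (U₀ ⊓ B.perp U₀) ⊥ with hUd₀ | hUd₀
    swap
    · -- a totally isotropic piece and a complement of its orthogonal space
      have hle : U₀ ≤ B.perp U₀ := le_trans
        (hU₀.le_of_le ⟨hUd₀, fun a x hx => ⟨hU₀i a x hx.1, hPinv₀ a x hx.2⟩⟩ inf_le_left) inf_le_right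
      obtain ⟨U', hU', hinf, hsup⟩ := hcr (B.perp U₀) hPinv₀
      set H := U₀ ⊔ U' with hH
      have hHi : ∀ a : A, ∀ x ∈ H, a • x ∈ H := fun a x hx => by
        obtain ⟨u, hu, v, hv, rfl⟩ := AddSubgroup.mem_sup.1 hx
        rw [smul_add]
        exact AddSubgroup.add_mem_sup (hU₀i a u hu) (hU' a v hv)
      have hiso : ∀ t ∈ U₀, ∀ u ∈ U₀, B.form t u = 0 := fun t ht u hu => hle hu t ht
      have hHd : H ⊓ B.perp H = ⊥ := eq_bot_iff.2 fun x hx => AddSubgroup.mem_bot.2 (by
        obtain ⟨u, hu, v, hv, rfl⟩ := AddSubgroup.mem_sup.1 hx.1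
        have hv0 : v = 0 := AddSubgroup.mem_bot.1 (hinf ▸ AddSubgroup.mem_inf.2 ⟨fun t ht => by
          have h := hx.2 t (AddSubgroup.mem_sup_left ht)
          rwa [map_add, hiso t ht u hu, zero_add] at h, hv⟩)
        rw [hv0, add_zero] at hx ⊢
        refine B.nondeg u fun y => ?_
        obtain ⟨s, hs, w, hw, rfl⟩ := AddSubgroup.mem_sup.1 (hsup ▸ AddSubgroup.mem_top y)
        rw [map_add, hs u hu, B.swap_zero (hx.2 w (AddSubgroup.mem_sup_right hw)), add_zero])
      by_cases hHt : H = ⊤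
      · -- two dual pieces
        have hperp : B.perp U₀ = U₀ := le_antisymm (fun x hx => by
          obtain ⟨u, hu, v, hv, rfl⟩ := AddSubgroup.mem_sup.1 (hH ▸ hHt ▸ AddSubgroup.mem_top x)
          have hv0 : v = 0 := AddSubgroup.mem_bot.1 (hinf ▸ AddSubgroup.mem_inf.2
            ⟨by simpa using sub_mem hx (hle hu), hv⟩)
          rwa [hv0, add_zero]) hle
        have hcard := B.card_perp hC U₀
        rw [hperp, hN] at hcard
        refine ⟨Nat.card U₀, hcard.symm, ?_⟩
        letI := subAct (A := A) U₀ hU₀i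
        haveI : FaithfulSMul A U₀ := ⟨fun {a c} h => eq_of_smul_eq_smul fun x : W => by
          obtain ⟨u, hu, v, hv, rfl⟩ := AddSubgroup.mem_sup.1 (hH ▸ hHt ▸ AddSubgroup.mem_top x)
          have hcu : ∀ u ∈ U₀, a • u = c • u := fun u hu => congrArg Subtype.val (h ⟨u, hu⟩)
          rw [smul_add, smul_add, hcu u hu, add_right_inj]
          refine sub_eq_zero.1 (AddSubgroup.mem_bot.1 (hinf ▸ AddSubgroup.mem_inf.2
            ⟨fun t ht => ?_, sub_mem (hU' a v hv) (hU' c v hv)⟩))
          have h1 : t = a • a⁻¹ • t := (smul_inv_smul a t).symm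
          rw [map_sub, sub_eq_zero, h1, hinv]
          rw [hcu _ (hU₀i a⁻¹ t ht), hinv]⟩
        haveI : Nontrivial U₀ := (AddSubgroup.nontrivial_iff_ne_bot U₀).2 hU₀b
        refine card_le_gb_linear (A := A) (W := U₀) (fun V hV => ?_)
        rcases eq_or_ne V ⊥ with hb | hb
        · exact Or.inl hb
        refine Or.inr (eq_top_iff.2 fun v _ => ?_)
        have hm : U₀ ≤ V.map U₀.subtype := hU₀.le_of_le ⟨fun h => hb (AddSubgroup.map_injective
            (AddSubgroup.subtype_injective U₀) (h.trans (AddSubgroup.map_bot _).symm)), fun a x hx => by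
          obtain ⟨y, hy, rfl⟩ := hx
          exact ⟨_, hV a y hy, rfl⟩⟩ (AddSubgroup.map_subtype_le V)
        obtain ⟨w, hw, e⟩ := hm v.2
        rwa [← Subtype.ext e]
      · exact split H hHi hHd (fun h => hU₀b (le_bot_iff.1 (h ▸ le_sup_left))) hHt
    exact split U₀ hU₀i hUd₀ hU₀b hU₀t

end Cfsg.Lib.Solv.ClassCount
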